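import Cfsg.Agent.Lib.M24Recog.FischerPair
import Cfsg.Agent.Lib.FischerAut.Main
import Cfsg.Agent.Lib.UFour.Mult
import Cfsg.Agent.S1714
import Cfsg.Agent.S5450

/-!
A group with a subgroup of index two of large Fischer type is Fi24: from the outer involution to the hypotheses
of the recognition.
-/

set_option autoImplicit false
set_option linter.style.haveILetI false
set_option linter.unusedSectionVars false
set_option maxRecDepth 100000

namespace CfsgLib.M24Recog.Glue

open Cfsg Cfsg.Spor
open CfsgLib.LargeFischer CfsgLib.FischerAut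
open CfsgLib.Fi23Pres (transClass central)
open CfsgLib.Fi24Pres (K)

variable {X : Type*} [Group X] [Finite X] {G₀ : Subgroup X} {z : ↥G₀}

theorem perfect_map {G H : Type*} [Group G] [Group H] (f : G →* H) {S : Subgroup G} (h : ⁅S, S⁆ = S) :
    ⁅S.map f, S.map f⁆ = S.map f := by rw [← Subgroup.map_commutator, h]

/-- the noncentral involutions of the extraspecial group -/
theorem transData {Q : Subgroup (CZ z)} [Q.Normal] (hF : Cfsg.IsOfLargeFischerTypeAt z Q) (t : CZ z) (ht : t ∈ Q)
    (ho : orderOf t = 2) (hnc : ¬ IsConj z (t : ↥G₀)) : TransData (t : ↥G₀) := by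
  haveI hn := zpowers_normal (t : ↥G₀)
  obtain ⟨hq, hi, hmem, he⟩ := Cfsg.Agent.S5450.result z Q hF (t : ↥G₀) ⟨t.2, ht⟩
    ((Subgroup.orderOf_coe t).trans ho) hnc _ rfl
  exact ⟨_, hq, hi, hmem, hn, he⟩

/-- the centraliser of the central involution is small -/
theorem centralizer_small {Q : Subgroup (CZ z)} [Q.Normal] (hidx : G₀.index = 2)
    (hF : Cfsg.IsOfLargeFischerTypeAt z Q) :
    Nat.card (Subgroup.centralizer ({(z : X)} : Set X)) ≤ 321052999680 := by
  obtain ⟨⟨-, -, -, hQ, -⟩, N, M, hN, hM, hQN, hNM, hcN, ⟨F, iF, iFt, hF9, ⟨e⟩⟩, hMi⟩ := hF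
  have hZ : Nat.card (CZ z) = 160526499840 := by
    rw [← M.card_mul_index, hMi, Subgroup.card_eq_card_quotient_mul_card_subgroup (N.subgroupOf M),
      Nat.card_congr e.toEquiv, (UFour.unitary_part hF9).1, Nat.card_congr (Subgroup.subgroupOfEquivOfLe hNM).toEquiv,
      hcN, hQ]
    norm_num
  set C := Subgroup.centralizer ({(z : X)} : Set X)
  have h1 : Nat.card ↥(G₀.subgroupOf C) ≤ Nat.card (CZ z) := by
    let f : ↥(G₀.subgroupOf C) → CZ z := fun a => ⟨⟨_, a.2⟩, Subgroup.mem_centralizer_singleton_iff.2 (Subtype.ext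
      (Subgroup.mem_centralizer_singleton_iff.1 a.1.2))⟩
    refine Nat.card_le_card_of_injective f fun a b h => ?_
    exact Subtype.ext (Subtype.ext (congrArg (fun c : CZ z => ((c : ↥G₀) : X)) h))
  have h2 : (G₀.subgroupOf C).index ≤ 2 := by
    haveI := Subgroup.normal_of_index_eq_two hidx
    refine le_trans ?_ hidx.le
    exact Nat.le_of_dvd (by rw [hidx]; norm_num) (Subgroup.relIndex_dvd_index_of_normal G₀ C)
  have h3 := (G₀.subgroupOf C).card_mul_index
  rw [← h3]
  refine (Nat.mul_le_mul h1 h2).trans ?_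
  rw [hZ]

variable {d : X} {u w : ↥G₀} {Ku : Subgroup ↥G₀} (O : FischerAut.Outer G₀ z d u w Ku)

/-- the centraliser of the outer involution in the subgroup of index two -/
abbrev HS (G₀ : Subgroup X) (d : X) : Subgroup X := G₀ ⊓ Subgroup.centralizer ({d} : Set X)

theorem mem_H {x : X} : x ∈ HS G₀ d ↔ x ∈ G₀ ∧ Commute x d :=
  and_congr_right fun _ => Subgroup.mem_centralizer_singleton_iff

/-- the ordered pair is conjugate to the first member and its transposition -/
def Adj (d : X) (u : ↥G₀) (a b : X) : Prop := ∃ g : X, g * d * g⁻¹ = a ∧ g * (d * (u : X)) * g⁻¹ = b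

include O

/-- the centraliser of the outer involution in the subgroup of index two is Fi23 -/
theorem exists_equiv : Nonempty (Fi23 ≃* ↥(HS G₀ d)) := by
  obtain ⟨t, htu, ho, hq, ⟨hn, ⟨E, hE, hEt⟩, -⟩, hnw⟩ := outer_m23 O
  haveI := hn
  obtain ⟨π, hs, h1, hK⟩ := O.shape.quot
  have hmem : ∀ a : ↥(HS G₀ d), a ∈ Subgroup.centralizer ({t} : Set ↥(HS G₀ d)) → (⟨a, a.2.1⟩ : ↥G₀) ∈ Ku := by
    intro a h
    refine (O.cent _).1 ⟨(mem_H.1 a.2).2.symm, Subtype.ext ?_⟩
    have := congrArg Subtype.val (Subgroup.mem_centralizer_singleton_iff.1 h)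
    rwa [Subgroup.coe_mul, Subgroup.coe_mul, htu] at this
  let χ : ↥(Subgroup.centralizer ({t} : Set ↥(HS G₀ d))) →* ↥(MulAut.conj : Fi22 →* MulAut Fi22).range :=
    MonoidHom.mk' (fun a => ⟨π ⟨⟨a.1, a.1.2.1⟩, Subgroup.mem_centralizer_singleton_iff.2
      (O.shape.le _ (hmem a.1 a.2)).eq⟩, (hK _).1 (hmem a.1 a.2)⟩) fun a b => Subtype.ext (by
        show π _ = π _ * π _
        rw [← map_mul]; rfl)
  have hχs : Function.Surjective χ := by
    rintro ⟨b, hb⟩
    obtain ⟨a, rfl⟩ := hs b
    have hc := (O.cent (a : ↥G₀)).2 ((hK a).2 hb)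
    exact ⟨⟨⟨(a : ↥G₀), mem_H.2 ⟨(a : ↥G₀).2, hc.1.symm⟩⟩, Subgroup.mem_centralizer_singleton_iff.2 (Subtype.ext (by
      rw [Subgroup.coe_mul, Subgroup.coe_mul, htu]
      exact congrArg Subtype.val hc.2.eq))⟩, rfl⟩
  have hχk : χ.ker = (Subgroup.zpowers t).subgroupOf (Subgroup.centralizer ({t} : Set ↥(HS G₀ d))) := by
    ext a
    rw [MonoidHom.mem_ker, Subtype.ext_iff, Subgroup.mem_subgroupOf]
    show π _ = 1 ↔ _
    rw [h1]
    show (⟨((a : ↥(HS G₀ d)) : X), _⟩ : ↥G₀) ∈ Subgroup.zpowers u ↔ _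
    constructor
    · rintro ⟨k, hk⟩
      refine ⟨k, Subtype.ext ?_⟩
      have hk' := congrArg Subtype.val hk
      show ((t ^ k : ↥(HS G₀ d)) : X) = _
      rw [Subgroup.coe_zpow, htu, ← Subgroup.coe_zpow]
      exact hk'
    · rintro ⟨k, hk⟩
      refine ⟨k, Subtype.ext ?_⟩
      show ((u ^ k : ↥G₀) : X) = _
      rw [Subgroup.coe_zpow, ← htu, ← Subgroup.coe_zpow]
      exact congrArg Subtype.val hk
  let φ := ((QuotientGroup.quotientMulEquivOfEq hχk.symm).trans
    (QuotientGroup.quotientKerEquivOfSurjective χ hχs)).trans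
      (MonoidHom.ofInjective CfsgLib.Fi22Pres.conj_injective_Fi22).symm
  obtain ⟨e⟩ := Cfsg.Agent.S1714.result t ho hq ⟨φ⟩ hnw
  exact ⟨e.symm⟩

variable (e : Fi23 ≃* ↥(HS G₀ d))

/-- the image of an element of Fi23 -/
def img {G₀ : Subgroup X} {d : X} (e : Fi23 ≃* ↥(HS G₀ d)) : Fi23 →* X := (Subgroup.subtype _).comp e.toMonoidHom

theorem img_spec (a : Fi23) : img e a ∈ G₀ ∧ Commute (img e a) d := mem_H.1 (e a).2

theorem img_inj : Function.Injective (img e) := fun _ _ h => e.injective (Subtype.ext h)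

theorem exists_img {x : X} (h0 : x ∈ G₀) (hc : Commute x d) : ∃ a, img e a = x :=
  ⟨e.symm ⟨x, mem_H.2 ⟨h0, hc⟩⟩, congrArg Subtype.val (e.apply_symm_apply _)⟩

/-- conjugation by a centralising element is inner on the image -/
theorem conj_img (hidx : G₀.index = 2) {c : X} (hc : Commute c d) :
    ∃ h, ∀ a, c * img e a * c⁻¹ = img e (h * a * h⁻¹) := by
  by_cases hcG : c ∈ G₀
  · obtain ⟨h, rfl⟩ := exists_img O e hcG hc
    exact ⟨h, fun a => by rw [map_mul, map_mul, map_inv]⟩
  · obtain ⟨h, hh⟩ := exists_img O e (x := c * d) ((Subgroup.mul_mem_iff_of_index_two hidx).2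
      ⟨fun h => absurd h hcG, fun h => absurd h O.out⟩) (hc.mul_left (Commute.refl d))
    refine ⟨h, fun a => ?_⟩
    rw [map_mul, map_mul, map_inv, hh, mul_inv_rev, show c * d * img e a * (d⁻¹ * c⁻¹) =
      c * (d * img e a * d⁻¹) * c⁻¹ by group, (img_spec O e a).2.symm.eq, mul_inv_cancel_right]

/-- the transposition over the first involution, its conjugate and their product -/
theorem exists_points : ∃ p q : Fi23, p ∈ transClass ∧ q ∈ transClass ∧ p ≠ q ∧ Commute p q ∧
    img e p = (u : X) ∧ img e q = (w : X) := by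
  obtain ⟨t, htu, ho, hq, -, -⟩ := outer_m23 O
  obtain ⟨p, rfl⟩ := e.surjective t
  have hp : p ∈ transClass := by
    refine FischerPair.mem_of_perfect (by rwa [MulEquiv.orderOf_eq] at ho) ?_
    have h1 : (Subgroup.centralizer ({e p} : Set ↥(HS G₀ d))).map e.symm.toMonoidHom = Subgroup.centralizer ({p} : Set Fi23) := by
      ext a
      rw [Subgroup.mem_map_equiv, MulEquiv.symm_symm, Subgroup.mem_centralizer_singleton_iff,
        Subgroup.mem_centralizer_singleton_iff, ← map_mul, ← map_mul, e.injective.eq_iff]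
    rw [← h1]
    refine perfect_map _ (self_commutator _ hq.1)
  obtain ⟨g, hdg, hgu⟩ := O.conj
  obtain ⟨h, hh⟩ := exists_img O e g.2 hdg.symm
  have hw : img e (h * p * h⁻¹) = (w : X) := by
    rw [map_mul, map_mul, map_inv, hh, show img e p = (u : X) from htu, ← hgu]
    rfl
  refine ⟨p, h * p * h⁻¹, hp, FischerPair.conj_mem h hp, fun he => O.ne_w (Subtype.ext ?_), ?_, htu, hw⟩
  · rw [← hw, ← he]; exact htu
  · refine img_inj O e ?_
    rw [map_mul (img e) p, map_mul (img e) _ p, hw, show img e p = (u : X) from htu]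
    exact congrArg Subtype.val (O.shape.le w O.mem_w).eq.symm

theorem mul_self_d {y : X} (hy : IsConj d y) : y * y = 1 := by
  obtain ⟨g, rfl⟩ := isConj_iff.1 hy
  rw [show g * d * g⁻¹ * (g * d * g⁻¹) = g * (d * d) * g⁻¹ by group, O.sq, mul_one, mul_inv_cancel]

/-- the conjugator of the basic pair onto the pair over it -/
theorem adj_third (hidx : G₀.index = 2) :
    Adj d u (d * (u : X)) (d * (w : X)) ∨ Adj d u (d * (w : X)) (d * (u : X)) := by
  obtain ⟨e⟩ := exists_equiv O
  obtain ⟨p, q, hp, hq, hne, hpq, hu, hw⟩ := exists_points O e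
  obtain ⟨Kt, St, hKq, hcases⟩ := O.third
  obtain ⟨r, hr⟩ := O.rot
  have hback : ∀ k ∈ Kt, r⁻¹ * k * r ∈ Ku := by
    intro k hk
    have := O.shape.perfect_le (perfect_map (MulAut.conj r⁻¹).toMonoidHom St.perfect) (fun l hl => by
      obtain ⟨k', hk', rfl⟩ := hl
      have h := (St.le k' hk').map (MulAut.conj r⁻¹).toMonoidHom
      rwa [show (MulAut.conj r⁻¹).toMonoidHom (u * w) = u by rw [← hr]; simp [mul_assoc]] at h) ⟨k, hk, rfl⟩
    simpa using this
  have hforth : ∀ k ∈ Ku, r * k * r⁻¹ ∈ Kt := by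
    intro k hk
    have := St.perfect_le (perfect_map (MulAut.conj r).toMonoidHom O.shape.perfect) (fun l hl => by
      obtain ⟨k', hk', rfl⟩ := hl
      have h := (O.shape.le k' hk').map (MulAut.conj r).toMonoidHom
      rwa [show (MulAut.conj r).toMonoidHom u = u * w from hr] at h) ⟨k, hk, rfl⟩
    simpa using this
  rcases hcases with hall | ⟨hKu, hKw⟩
  · exfalso
    -- then the product would be a transposition
    let f : ↥Kt →* Fi23 := e.symm.toMonoidHom.comp
      (MonoidHom.mk' (fun k => (⟨((k : ↥G₀) : X), mem_H.2 ⟨(k : ↥G₀).2, (hall k k.2).symm⟩⟩ : ↥(HS G₀ d))) fun a b => rfl)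
    have hf : ∀ k, img e (f k) = ((k : ↥G₀) : X) := fun k => congrArg Subtype.val (e.apply_symm_apply _)
    have hfi : Function.Injective f := fun a b h => by
      have := congrArg (img e) h
      rw [hf, hf] at this
      exact Subtype.ext (Subtype.ext this)
    refine FischerPair.pair_lt hp hq hne hpq (S := f.range) ?_ (fun s hs => ?_) ?_
    · rw [MonoidHom.range_eq_map, ← Subgroup.map_commutator, ← commutator_def, hKq.1.commutator_eq_top]
    · obtain ⟨k, rfl⟩ := hs
      refine img_inj O e ?_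
      rw [map_mul, map_mul _ (p * q), map_mul, hf, hu, hw]
      exact congrArg Subtype.val (St.le k k.2).eq
    · refine le_antisymm ?_ ?_
      · rw [Nat.card_congr (MonoidHom.ofInjective hfi).toEquiv.symm]
        have hin : ∀ k : Kt, ∃ a : Subgroup.centralizer ({p} : Set Fi23),
            img e a = ((r⁻¹ * (k : ↥G₀) * r : ↥G₀) : X) := fun k => by
          have hc := (O.cent _).2 (hback k k.2)
          obtain ⟨a, ha⟩ := exists_img O e (r⁻¹ * (k : ↥G₀) * r).2 hc.1.symm
          refine ⟨⟨a, Subgroup.mem_centralizer_singleton_iff.2 (img_inj O e ?_)⟩, ha⟩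
          rw [map_mul, map_mul, ha, hu]
          exact congrArg Subtype.val hc.2.eq
        choose a ha using hin
        refine Nat.card_le_card_of_injective a fun k l h => Subtype.ext ?_
        have := Subtype.ext ((ha k).symm.trans ((congrArg (fun b : Subgroup.centralizer ({p} : Set Fi23) =>
          img e b) h).trans (ha l)))
        simpa using this
      · rw [Nat.card_congr (MonoidHom.ofInjective hfi).toEquiv.symm]
        have hin : ∀ a : Subgroup.centralizer ({p} : Set Fi23), (⟨img e a, (img_spec O e a).1⟩ : ↥G₀) ∈ Ku :=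
          fun a => (O.cent _).1 ⟨(img_spec O e a).2.symm, Subtype.ext (by
            show img e a * (u : X) = (u : X) * img e a
            rw [← hu, ← map_mul, ← map_mul, Subgroup.mem_centralizer_singleton_iff.1 a.2])⟩
        refine Nat.card_le_card_of_injective (fun a => (⟨_, hforth _ (hin a)⟩ : Kt)) fun a b h => ?_
        have h' := congrArg (fun k : Kt => (k : ↥G₀)) h
        have h'' : (⟨img e a, (img_spec O e a).1⟩ : ↥G₀) = ⟨img e b, (img_spec O e b).1⟩ :=
          mul_left_cancel (mul_right_cancel (b := r⁻¹) h')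
        have h3 : img e a = img e b := (congrArg (fun v : ↥G₀ => (v : X)) h'' :)
        exact Subtype.ext (img_inj O e h3)
  · -- the image of the first member centralises the third cover
    obtain ⟨e₀, he₀⟩ : ∃ e₀, e₀ = (r : X) * d * (r : X)⁻¹ := ⟨_, rfl⟩
    have hG0 : ∀ x : ↥G₀, d * (x : X) ∉ G₀ := fun x h => O.out (by
      have := G₀.mul_mem h (G₀.inv_mem x.2)
      rwa [mul_inv_cancel_right] at this)
    have he₀G : e₀ ∉ G₀ := fun h => O.out (by
      rw [he₀] at h
      have := G₀.mul_mem (G₀.mul_mem (G₀.inv_mem r.2) h) r.2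
      rwa [show (r : X)⁻¹ * ((r : X) * d * (r : X)⁻¹) * r = d by group] at this)
    have hcK : ∀ k ∈ Kt, Commute e₀ (k : X) := fun k hk => by
      have h := (Commute.conj_iff (r : X)).2 ((O.cent _).2 (hback k hk)).1
      rwa [← he₀, show (r : X) * ((r⁻¹ * k * r : ↥G₀) : X) * (r : X)⁻¹ = k by push_cast; group] at h
    have hdu : Commute d (u : X) := ((O.cent u).2 O.shape.mem).1
    have hdw : Commute d (w : X) := ((O.cent w).2 O.mem_w).1
    have huw : Commute (u : X) (w : X) := congrArg Subtype.val (O.shape.le w O.mem_w).eq.symm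
    have huu : (u : X) * u = 1 := congrArg Subtype.val O.two
    have hww : (w : X) * w = 1 := by
      obtain ⟨g, -, rfl⟩ := O.conj
      rw [Subgroup.coe_mul, Subgroup.coe_mul, Subgroup.coe_inv,
        show (g : X) * u * (g : X)⁻¹ * ((g : X) * u * (g : X)⁻¹) = g * ((u : X) * u) * (g : X)⁻¹ by group, huu]
      group
    haveI := Subgroup.normal_of_index_eq_two hidx
    have hm : (d * (u : X)) * e₀ ∈ G₀ := (Subgroup.mul_mem_iff_of_index_two hidx).2
      ⟨fun h => absurd h (hG0 u), fun h => absurd h he₀G⟩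
    have hh := St.ord (show u * w * (u * w) = 1 from Subtype.ext (by
        show (u : X) * w * (u * w) = 1
        rw [huw.symm.mul_mul_mul_comm, huu, hww, one_mul]))
      (St.cent (x := ⟨_, hm⟩) fun k hk => Subtype.ext ((hKu k hk).mul_left (hcK k hk)).eq)
    have hee : e₀ = d * (u : X) ∨ e₀ = d * (w : X) := by
      have hinv : d * (u : X) * (d * u) = 1 := by rw [hdu.symm.mul_mul_mul_comm, O.sq, huu, one_mul]
      rcases hh with h | h <;> have h' : d * (u : X) * e₀ = _ := congrArg Subtype.val h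
      · left
        rw [OneMemClass.coe_one] at h'
        rw [eq_inv_of_mul_eq_one_right h', inv_eq_of_mul_eq_one_right hinv]
      · right
        calc e₀ = d * (u : X) * (d * u * e₀) := by rw [← mul_assoc, hinv, one_mul]
          _ = d * (u : X) * (u * w) := by rw [h']; rfl
          _ = d * w := by rw [mul_assoc, ← mul_assoc (u : X), huu, one_mul]
    have hru : (r : X) * u * (r : X)⁻¹ = (u : X) * w := congrArg Subtype.val hr
    have hpair : (r : X) * (d * u) * (r : X)⁻¹ = e₀ * ((u : X) * w) := by rw [he₀, ← hru]; group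
    rcases hee with h | h
    · refine Or.inl ⟨r, he₀.symm.trans h, ?_⟩
      rw [hpair, h, mul_assoc, ← mul_assoc (u : X), huu, one_mul]
    · refine Or.inr ⟨r, he₀.symm.trans h, ?_⟩
      rw [hpair, h, huw.eq, mul_assoc, ← mul_assoc (w : X), hww, one_mul]

theorem adj_conj {a b : X} (h : Adj d u a b) (x : X) : Adj d u (x * a * x⁻¹) (x * b * x⁻¹) := by
  obtain ⟨g, rfl, rfl⟩ := h
  exact ⟨x * g, by group, by group⟩

variable (hidx : G₀.index = 2)
include hidx

theorem adj_base {p : Fi23} (hp : p ∈ transClass) :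
    Adj d u d (d * img e p) ∧ Adj d u (d * img e p) d := by
  obtain ⟨a, b, ha, hb, hne, hc, hu, hw⟩ := exists_points O e
  obtain ⟨s, s1, s2⟩ := FischerPair.pair_move ha hb hne hc hb ha hne.symm hc.symm
  have hsd : img e s * d * (img e s)⁻¹ = d := by rw [(img_spec O e s).2.eq, mul_inv_cancel_right]
  have hswap : img e s * (d * (u : X)) * (img e s)⁻¹ = d * (w : X) ∧
      img e s * (d * (w : X)) * (img e s)⁻¹ = d * (u : X) := by
    rw [← hu, ← hw]
    constructor <;>
      rw [show ∀ y, img e s * (d * y) * (img e s)⁻¹ = (img e s * d * (img e s)⁻¹) *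
        (img e s * y * (img e s)⁻¹) from fun y => by group, hsd, ← map_inv, ← map_mul, ← map_mul]
    exacts [congrArg (fun y => d * img e y) s1, congrArg (fun y => d * img e y) s2]
  have hboth : Adj d u (d * (u : X)) (d * (w : X)) ∧ Adj d u (d * (w : X)) (d * (u : X)) := by
    rcases adj_third O hidx with h | h
    · have := adj_conj O h (img e s); rw [hswap.1, hswap.2] at this; exact ⟨h, this⟩
    · have := adj_conj O h (img e s); rw [hswap.1, hswap.2] at this; exact ⟨this, h⟩
  obtain ⟨⟨g, g1, g2⟩, g', g1', g2'⟩ := hboth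
  have hrev : Adj d u (d * (u : X)) d := by
    refine ⟨g⁻¹ * g', ?_, ?_⟩
    · rw [show g⁻¹ * g' * d * (g⁻¹ * g')⁻¹ = g⁻¹ * (g' * d * g'⁻¹) * g by group, g1', ← g2]; group
    · rw [show g⁻¹ * g' * (d * (u : X)) * (g⁻¹ * g')⁻¹ = g⁻¹ * (g' * (d * (u : X)) * g'⁻¹) * g by group, g2', ← g1]
      group
  obtain ⟨h, rfl⟩ := isConj_iff.1 ((ha : IsConj central a).symm.trans hp)
  have e1 : img e h * d * (img e h)⁻¹ = d := by rw [(img_spec O e h).2.eq, mul_inv_cancel_right]
  have e2 : img e h * (d * (u : X)) * (img e h)⁻¹ = d * img e (h * a * h⁻¹) := by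
    rw [map_mul, map_mul, map_inv, hu, show img e h * (d * (u : X)) * (img e h)⁻¹ =
      (img e h * d * (img e h)⁻¹) * (img e h * (u : X) * (img e h)⁻¹) by group, e1]
  refine ⟨⟨img e h, e1, e2⟩, ?_⟩
  have := adj_conj O hrev (img e h)
  rwa [e1, e2] at this

theorem adj_pair {p q : Fi23} (hp : p ∈ transClass) (hq : q ∈ transClass) (hne : p ≠ q) (hc : Commute p q) :
    Adj d u (d * img e p) (d * img e q) := by
  obtain ⟨a, b, ha, hb, hne', hc', hu, hw⟩ := exists_points O e
  have key : ∀ {a b : Fi23}, a ∈ transClass → b ∈ transClass → a ≠ b → Commute a b →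
      Adj d u (d * img e a) (d * img e b) → Adj d u (d * img e p) (d * img e q) := by
    intro a b ha hb hne' hc' h
    obtain ⟨x, rfl, rfl⟩ := FischerPair.pair_move ha hb hne' hc' hp hq hne hc
    have := adj_conj O h (img e x)
    rwa [show ∀ y, img e x * (d * img e y) * (img e x)⁻¹ = d * img e (x * y * x⁻¹) from fun y => by
        rw [map_mul, map_mul, map_inv, ← mul_assoc, (img_spec O e x).2.eq]; group,
      show ∀ y, img e x * (d * img e y) * (img e x)⁻¹ = d * img e (x * y * x⁻¹) from fun y => by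
        rw [map_mul, map_mul, map_inv, ← mul_assoc, (img_spec O e x).2.eq]; group] at this
  rcases adj_third O hidx with h | h <;> rw [← hu, ← hw] at h
  · exact key ha hb hne' hc' h
  · exact key hb ha hne'.symm hc'.symm h

/-- the second of two pairs with the same first member -/
theorem pull {g : X} {p : Fi23} (hp : p ∈ transClass) (hu : img e p = (u : X)) {a b : X} (hg : g * d * g⁻¹ = a)
    (h : Adj d u a b) : ∃ r ∈ transClass, g * (d * img e r) * g⁻¹ = b := by
  obtain ⟨g', g1, g2⟩ := h
  have hc : Commute (g⁻¹ * g') d := by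
    refine mul_inv_eq_iff_eq_mul.1 ?_
    rw [show g⁻¹ * g' * d * (g⁻¹ * g')⁻¹ = g⁻¹ * (g' * d * g'⁻¹) * g by group, g1, ← hg]
    group
  obtain ⟨h, hh⟩ := conj_img O e hidx hc
  refine ⟨h * p * h⁻¹, FischerPair.conj_mem h hp, ?_⟩
  rw [← hh, hu, ← g2, show g * (d * (g⁻¹ * g' * (u : X) * (g⁻¹ * g')⁻¹)) * g⁻¹ =
    g * (d * (g⁻¹ * g')) * (u : X) * g'⁻¹ by group, hc.symm.eq]
  group

theorem not_pair {p q : Fi23} (hp : p ∈ transClass) (hq : q ∈ transClass) (hne : p ≠ q) (hc : Commute p q) :
    ¬ IsConj d (d * img e p * img e q) := by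
  intro hy
  obtain ⟨k, hk⟩ := isConj_iff.1 hy
  have hA := img_spec O e p
  have hB := img_spec O e q
  have hAB : Commute (img e p) (img e q) := hc.map _
  set y := d * img e p * img e q with hydef
  have hcy : ∀ {a : Fi23}, Commute a p → Commute a q → Commute (img e a) y := fun h1 h2 =>
    ((img_spec O e _).2.mul_right (h1.map _)).mul_right (h2.map _)
  haveI := Subgroup.normal_of_index_eq_two hidx
  have hback : ∀ a : Fi23, Commute a p → Commute a q → ∃ b, img e b = k⁻¹ * img e a * k := fun a h1 h2 => by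
    refine exists_img O e ?_ ?_
    · simpa using (inferInstance : G₀.Normal).conj_mem _ (img_spec O e a).1 k⁻¹
    · have := (Commute.conj_iff k⁻¹).2 (hcy h1 h2)
      rwa [← hk, inv_inv, show k⁻¹ * (k * d * k⁻¹) * k = d by group] at this
  obtain ⟨a, ea⟩ := hback p (Commute.refl p) hc
  obtain ⟨b, eb⟩ := hback q hc.symm (Commute.refl q)
  have hinv2 : ∀ {v : Fi23}, v ∈ transClass → img e v * img e v = 1 := fun hv => by
    rw [← map_mul, FischerPair.sq hv, map_one]
  have htrans : ∀ x : X, x * y * x⁻¹ = y → ∀ {t : Fi23}, img e t = k⁻¹ * (x * img e p * x⁻¹) * k → IsConj a t := by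
    intro x hx t ht
    have hcx : Commute (k⁻¹ * x * k) d := by
      have := (Commute.conj_iff k⁻¹).2 (mul_inv_eq_iff_eq_mul.1 hx : Commute x y)
      rwa [← hk, inv_inv, show k⁻¹ * (k * d * k⁻¹) * k = d by group] at this
    obtain ⟨h, hh⟩ := conj_img O e hidx hcx
    refine isConj_iff.2 ⟨h, img_inj O e ?_⟩
    rw [← hh, ea, ht]; group
  have h1 : IsConj a b := by
    obtain ⟨s, s1, s2⟩ := FischerPair.pair_move hp hq hne hc hq hp hne.symm hc.symm
    have sp : img e s * img e p * (img e s)⁻¹ = img e q := by rw [← map_inv, ← map_mul, ← map_mul, s1]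
    have sq' : img e s * img e q * (img e s)⁻¹ = img e p := by rw [← map_inv, ← map_mul, ← map_mul, s2]
    refine htrans (img e s) ?_ (by rw [eb, sp])
    rw [hydef, show img e s * (d * img e p * img e q) * (img e s)⁻¹ = (img e s * d * (img e s)⁻¹) *
      (img e s * img e p * (img e s)⁻¹) * (img e s * img e q * (img e s)⁻¹) by group, sp, sq',
      (img_spec O e s).2.eq, mul_inv_cancel_right, mul_assoc, hAB.symm.eq, ← mul_assoc]
  have h2 : IsConj a (a * b) := by
    obtain ⟨P, Q, hP, hQ, hPQ, hPQc, hu, -⟩ := exists_points O e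
    obtain ⟨g, g1, g2⟩ := (adj_base O e hidx hq).2
    obtain ⟨r, hr, g3⟩ := pull O e hidx hP hu g1 (adj_pair O e hidx hq hp hne.symm hc.symm)
    rw [← hu] at g2
    have hPr : P ≠ r := fun he => by
      rw [← he, g2] at g3
      exact hne (by_contra fun _ => ThreeTransp.ne_one_of_mem Fi23Pres.transClass_three.1 hp
        (img_inj O e (by rw [map_one]; exact (mul_eq_left.1 g3.symm))))
    have hPrc : Commute P r := by
      refine img_inj O e ?_
      rw [map_mul, map_mul]
      have hdd : Commute (d * img e P) (d * img e r) := by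
        rw [← Commute.conj_iff g, g2, g3]
        exact (Commute.refl d).mul_right hA.2.symm
      have e1 := hdd.eq
      rw [(img_spec O e P).2.mul_mul_mul_comm, (img_spec O e r).2.mul_mul_mul_comm, O.sq, one_mul, one_mul] at e1
      exact e1
    obtain ⟨h, hq1, hp1⟩ := FischerPair.pair_move hq hp hne.symm hc.symm hP hr hPr hPrc
    obtain ⟨x, hx⟩ : ∃ x, x = g * img e h := ⟨_, rfl⟩
    have hmv : ∀ v : Fi23, x * (d * img e v) * x⁻¹ = g * (d * img e (h * v * h⁻¹)) * g⁻¹ := fun v => by
      rw [hx, mul_inv_rev, map_mul, map_mul, map_inv, show g * img e h * (d * img e v) * ((img e h)⁻¹ * g⁻¹) =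
        g * ((img e h * d * (img e h)⁻¹) * (img e h * img e v * (img e h)⁻¹)) * g⁻¹ by group,
        (img_spec O e h).2.eq, mul_inv_cancel_right]
    have xd : x * d * x⁻¹ = d * img e q := by
      rw [hx, show g * img e h * d * (g * img e h)⁻¹ = g * (img e h * d * (img e h)⁻¹) * g⁻¹ by group,
        (img_spec O e h).2.eq, mul_inv_cancel_right, g1]
    have xq : x * (d * img e q) * x⁻¹ = d := by rw [hmv, hq1, g2]
    have xp : x * (d * img e p) * x⁻¹ = d * img e p := by rw [hmv, hp1, g3]
    have xA : x * img e p * x⁻¹ = img e p * img e q := by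
      rw [show img e p = d * (d * img e p) by rw [← mul_assoc, O.sq, one_mul],
        show x * (d * (d * img e p)) * x⁻¹ = x * d * x⁻¹ * (x * (d * img e p) * x⁻¹) by group, xd, xp,
        hB.2.mul_mul_mul_comm, O.sq, one_mul, ← mul_assoc d d, O.sq, one_mul, hAB.symm.eq]
    have hyeq : y = d * (d * img e p) * (d * img e q) := by
      rw [← mul_assoc d d, O.sq, one_mul, ← mul_assoc, hA.2.eq]
    refine htrans x ?_ (by rw [map_mul, ea, eb, xA]; group)
    rw [hyeq, show x * (d * (d * img e p) * (d * img e q)) * x⁻¹ =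
      x * d * x⁻¹ * (x * (d * img e p) * x⁻¹) * (x * (d * img e q) * x⁻¹) by group, xd, xp, xq]
    have c1 : Commute d (d * img e p) := (Commute.refl d).mul_right hA.2.symm
    have c2 : Commute d (d * img e q) := (Commute.refl d).mul_right hB.2.symm
    have c3 : Commute (d * img e q) (d * img e p) := (hA.2.symm.mul_left (hAB.symm)) |> fun h => c2.symm.mul_right h
    rw [c3.eq, mul_assoc, c2.symm.eq, ← mul_assoc, c1.symm.eq]
  have hane : ∀ {s v : Fi23}, img e s = k⁻¹ * img e v * k → v ≠ 1 → s ≠ 1 := fun {s v} h hv e1 => by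
    rw [e1, map_one] at h
    exact hv (img_inj O e (by rw [map_one, show img e v = k * (k⁻¹ * img e v * k) * k⁻¹ by group, ← h]; group))
  have hpne := ThreeTransp.ne_one_of_mem Fi23Pres.transClass_three.1 hp
  have hqne := ThreeTransp.ne_one_of_mem Fi23Pres.transClass_three.1 hq
  have hpqne : p * q ≠ 1 := fun h => hne (by
    rw [eq_inv_of_mul_eq_one_left h, inv_eq_of_mul_eq_one_right (FischerPair.sq hq)])
  obtain ⟨P, hP, hPp, hPc, -⟩ := FischerPair.pair_cent hp hq hne hc
  let f : ↥P →* Fi23 := e.symm.toMonoidHom.comp ((((MulAut.conj k⁻¹).toMonoidHom.comp (img e)).comp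
    P.subtype).codRestrict _ fun v => by
      obtain ⟨s, hs⟩ := hback v ((hP v).1 v.2).1 ((hP v).1 v.2).2
      have := (e s).2
      rw [show ((e s : ↥(HS G₀ d)) : X) = img e s from rfl, hs] at this
      simpa using this)
  have hf : ∀ v, img e (f v) = k⁻¹ * img e v * k := fun v => by
    refine (congrArg Subtype.val (e.apply_symm_apply _)).trans ?_
    simp
  have hfi : Function.Injective f := fun s t h => by
    have := congrArg (img e) h
    rw [hf, hf] at this
    exact Subtype.ext (img_inj O e (mul_left_cancel (mul_right_cancel this)))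
  have htwo : ∀ {s v : Fi23}, img e s = k⁻¹ * img e v * k → v * v = 1 → s * s = 1 := fun {s v} h hv =>
    img_inj O e (by
      rw [map_mul, h, map_one, show k⁻¹ * img e v * k * (k⁻¹ * img e v * k) = k⁻¹ * img e (v * v) * k by
        rw [map_mul]; group, hv, map_one]; group)
  refine FischerPair.no_four (orderOf_eq_prime (by rw [pow_two]; exact htwo ea (FischerPair.sq hp)) (hane ea hpne))
    (hane eb hqne) (hane (by rw [map_mul, map_mul, ea, eb]; group) hpqne) h1 h2 ?_ (S := f.range) ?_ ?_ ?_ ?_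
  · refine img_inj O e ?_
    rw [map_mul, map_mul, ea, eb, show k⁻¹ * img e p * k * (k⁻¹ * img e q * k) = k⁻¹ * (img e p * img e q) * k
      by group, hAB.eq]
    group
  · rw [MonoidHom.range_eq_map, ← Subgroup.map_commutator]
    refine congrArg (Subgroup.map f) (Subgroup.map_injective P.subtype_injective ?_)
    rw [Subgroup.map_commutator, ← MonoidHom.range_eq_map, Subgroup.range_subtype, hPp]
  · rintro _ ⟨v, rfl⟩
    refine img_inj O e ?_
    rw [map_mul, map_mul, hf, ea, show k⁻¹ * img e v * k * (k⁻¹ * img e p * k) = k⁻¹ * (img e v * img e p) * k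
      by group, (((hP v).1 v.2).1.map (img e)).eq]
    group
  · rintro _ ⟨v, rfl⟩
    refine img_inj O e ?_
    rw [map_mul, map_mul, hf, eb, show k⁻¹ * img e v * k * (k⁻¹ * img e q * k) = k⁻¹ * (img e v * img e q) * k
      by group, (((hP v).1 v.2).2.map (img e)).eq]
    group
  · rw [← Nat.card_congr (MonoidHom.ofInjective hfi).toEquiv, hPc]

theorem perp_iff {y : X} : (IsConj d y ∧ y ≠ d ∧ Commute y d) ↔ ∃ p ∈ transClass, d * img e p = y := by
  constructor
  · rintro ⟨hy, hne, hc⟩
    haveI := Subgroup.normal_of_index_eq_two hidx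
    have hyG : y ∉ G₀ := fun h => by
      obtain ⟨g, rfl⟩ := isConj_iff.1 hy
      exact O.out (by simpa [mul_assoc] using (inferInstance : G₀.Normal).conj_mem _ h g⁻¹)
    obtain ⟨a, ha⟩ := exists_img O e (x := d * y) ((Subgroup.mul_mem_iff_of_index_two hidx).2
      ⟨fun h => absurd h O.out, fun h => absurd h hyG⟩) ((Commute.refl d).mul_left hc)
    have hya : d * img e a = y := by rw [ha, ← mul_assoc, O.sq, one_mul]
    have ha2 : orderOf a = 2 := by
      refine orderOf_eq_prime (img_inj O e ?_) fun h => hne ?_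
      · rw [map_pow, map_one, ha, pow_two, hc.mul_mul_mul_comm, O.sq, mul_self_d O hy, one_mul]
      · rw [← hya, h, map_one, mul_one]
    obtain ⟨l, hl, rfl⟩ := Fi23Inv.involution_frame ha2
    match l, hl with
    | [], hl => exact absurd hl.pos (by simp)
    | [p], hl => exact ⟨p, hl.mem p (by simp), by simpa using hya⟩
    | [p, q], hl =>
      exfalso
      have hn : p ≠ q := by have := hl.nodup; simp at this; exact this
      refine not_pair O e hidx (hl.mem p (by simp)) (hl.mem q (by simp)) hn (hl.comm p (by simp) q (by simp)) ?_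
      rw [mul_assoc, ← map_mul]
      rw [← hya] at hy
      simpa using hy
    | [p, q, r], hl =>
      exfalso
      have hn := hl.nodup
      simp only [List.nodup_cons, List.mem_cons, List.not_mem_nil, or_false, not_or, List.nodup_nil, and_true,
        not_false_eq_true] at hn
      have hp := hl.mem p (by simp); have hq := hl.mem q (by simp); have hr := hl.mem r (by simp)
      have cpq := hl.comm p (by simp) q (by simp)
      have cpr := hl.comm p (by simp) r (by simp)
      have cqr := hl.comm q (by simp) r (by simp)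
      obtain ⟨P, -, hP, -, -, -, hu, -⟩ := exists_points O e
      obtain ⟨g, g1, g2⟩ := adj_pair O e hidx hp hq hn.1.1 cpq
      obtain ⟨s, hs, g3⟩ := pull O e hidx hP hu g1 (adj_pair O e hidx hp hr hn.1.2 cpr)
      rw [← hu] at g2
      have hy' : g * (d * img e P * img e s) * g⁻¹ = y := by
        rw [← hya, List.prod_cons, List.prod_cons, List.prod_singleton, map_mul, map_mul]
        have h0 : d * img e P * img e s = d * ((d * img e P) * (d * img e s)) := by
          rw [(img_spec O e P).2.mul_mul_mul_comm, O.sq, one_mul, mul_assoc]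
        rw [h0, show g * (d * (d * img e P * (d * img e s))) * g⁻¹ = g * d * g⁻¹ *
          ((g * (d * img e P) * g⁻¹) * (g * (d * img e s) * g⁻¹)) by group, g1, g2, g3,
          (img_spec O e q).2.mul_mul_mul_comm, O.sq, one_mul, mul_assoc]
      have hne' : P ≠ s := fun he => by
        rw [← he, g2] at g3
        exact hn.2 (img_inj O e (mul_left_cancel g3))
      have hcm : Commute P s := by
        refine img_inj O e ?_
        rw [map_mul, map_mul]
        have hdd : Commute (d * img e P) (d * img e s) := by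
          rw [← Commute.conj_iff g, g2, g3]
          exact ((Commute.refl d).mul_right (img_spec O e r).2.symm).mul_left
            ((img_spec O e q).2.mul_right (cqr.map _))
        have e1 := hdd.eq
        rw [(img_spec O e P).2.mul_mul_mul_comm, (img_spec O e s).2.mul_mul_mul_comm, O.sq, one_mul, one_mul] at e1
        exact e1
      exact not_pair O e hidx hP hs hne' hcm (hy.trans (isConj_iff.2 ⟨g, hy'⟩).symm)
    | _ :: _ :: _ :: _ :: _, hl => exact absurd hl.le (by simp)
  · rintro ⟨p, hp, rfl⟩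
    refine ⟨?_, fun h => ?_, (Commute.refl d).mul_left (img_spec O e p).2⟩
    · obtain ⟨g, g1, -⟩ := (adj_base O e hidx hp).2
      exact isConj_iff.2 ⟨g, g1⟩
    · exact ThreeTransp.ne_one_of_mem Fi23Pres.transClass_three.1 hp
        (img_inj O e ((mul_eq_left.1 h).trans (map_one _).symm))

/-- Fi24 from the outer involution -/
theorem exists_iso_outer (hz : orderOf z = 2)
    (hcard : Nat.card (Subgroup.centralizer ({(z : X)} : Set X)) ≤ 321052999680) :
    ∃ Ψ : Fi24 ≃* X, Ψ '' Fi24Act.transClass = conjugatesOf d := by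
  obtain ⟨e⟩ := exists_equiv O
  have hd : orderOf d = 2 := orderOf_eq_prime (by rw [pow_two, O.sq]) fun h => O.out (h ▸ one_mem _)
  let c : Multiplicative (ZMod 2) →* X := MonoidHom.mk' (fun ε => if ε = 1 then 1 else d) (by
    intro a b
    have h2 : ∀ a : Multiplicative (ZMod 2), a = 1 ∨ a = Multiplicative.ofAdd 1 := by decide
    have hne : Multiplicative.ofAdd (1 : ZMod 2) ≠ 1 := by decide
    have h11 : Multiplicative.ofAdd (1 : ZMod 2) * Multiplicative.ofAdd 1 = 1 := by decide
    rcases h2 a with rfl | rfl <;> rcases h2 b with rfl | rfl <;> simp [hne, h11, O.sq])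
  have hc : ∀ ε, c ε = 1 ∨ c ε = d := fun ε => by
    show (if ε = 1 then 1 else d) = 1 ∨ (if ε = 1 then 1 else d) = d
    split <;> simp
  have hcomm : ∀ a ε, Commute (img e a) (c ε) := fun a ε => by
    rcases hc ε with h | h <;> rw [h]
    exacts [Commute.one_right _, (img_spec O e a).2]
  have hc1 : c (Multiplicative.ofAdd 1) = d := by
    show (if Multiplicative.ofAdd (1 : ZMod 2) = 1 then 1 else d) = d
    rw [if_neg (by decide)]
  let ι : K →* X := (img e).noncommCoprod c hcomm
  have hι : ∀ k : K, ι k = img e k.1 * c k.2 := fun k => rfl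
  refine M24Recog.exists_iso G₀ hidx hd O.out ι ?_ ?_ ?_ ?_ z ((Subgroup.orderOf_coe z).trans hz) z.2 O.comm_z hcard
  · refine (injective_iff_map_eq_one ι).2 fun k h => ?_
    rw [hι] at h
    by_cases hk : k.2 = 1
    · rw [hk, map_one, mul_one, ← map_one (img e)] at h
      exact Prod.ext (img_inj O e h) hk
    · exfalso
      have : c k.2 = d := if_neg hk
      rw [this] at h
      exact O.out ((Subgroup.mul_mem_cancel_left G₀ (img_spec O e k.1).1).1 (h ▸ one_mem _))
  · intro x
    constructor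
    · rintro ⟨k, rfl⟩
      rw [hι]
      rcases hc k.2 with h | h <;> rw [h]
      exacts [(img_spec O e k.1).2.mul_left (Commute.one_left _), (img_spec O e k.1).2.mul_left (Commute.refl d)]
    · intro hx
      by_cases hxG : x ∈ G₀
      · obtain ⟨a, rfl⟩ := exists_img O e hxG hx
        exact ⟨(a, 1), by rw [hι, map_one, mul_one]⟩
      · obtain ⟨a, ha⟩ := exists_img O e (x := x * d) ((Subgroup.mul_mem_iff_of_index_two hidx).2
          ⟨fun h => absurd h hxG, fun h => absurd h O.out⟩) (hx.mul_left (Commute.refl d))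
        exact ⟨(a, Multiplicative.ofAdd 1), by rw [hι, hc1, ha, mul_assoc, O.sq, mul_one]⟩
  · rw [hι, map_one, one_mul, hc1]
  · intro y
    refine (perp_iff O e hidx).trans ⟨?_, ?_⟩
    · rintro ⟨p, hp, rfl⟩
      exact ⟨(p, Multiplicative.ofAdd 1), ⟨hp, rfl⟩, by rw [hι, hc1, (img_spec O e p).2.eq]⟩
    · rintro ⟨⟨p, ε⟩, ⟨hp, rfl⟩, rfl⟩
      exact ⟨p, hp, by rw [hι, hc1, (img_spec O e p).2.eq]⟩

end CfsgLib.M24Recog.Glue

namespace CfsgLib.M24Recog

open Cfsg Cfsg.Spor CfsgLib.LargeFischer

/-- A group with a subgroup of index two of large Fischer type is Fi24. -/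
theorem exists_iso_of_fischer {X : Type*} [Group X] [Finite X] (G₀ : Subgroup X) (hidx : G₀.index = 2) (z : ↥G₀)
    (Q : Subgroup (Subgroup.centralizer ({z} : Set ↥G₀))) [Q.Normal] (hF : Cfsg.IsOfLargeFischerTypeAt z Q)
    (hcentral : ∃ P : Sylow 2 ↥G₀, z ∈ (P : Subgroup ↥G₀) ∧ ∀ x ∈ (P : Subgroup ↥G₀), Commute x z)
    (hFX : (Cfsg.generalizedFittingSubgroup ↥(Subgroup.centralizer ({(z : X)} : Set X))).map (Subgroup.subtype _) =
      (Q.map (Subgroup.subtype _)).map G₀.subtype) :
    ∃ (d : X) (Ψ : Fi24 ≃* X), Ψ '' Fi24Act.transClass = conjugatesOf d := by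
  obtain ⟨d, u, w, Ku, O⟩ := FischerAut.exists_outer_d G₀ hidx z Q hF hcentral hFX (Glue.transData hF)
  exact ⟨d, Glue.exists_iso_outer O hidx hF.1.1 (Glue.centralizer_small hidx hF)⟩

/-- The same as a class of 3-transpositions of type M(24). -/
theorem type24_of_fischer {X : Type*} [Group X] [Finite X] (G₀ : Subgroup X) (hidx : G₀.index = 2) (z : ↥G₀)
    (Q : Subgroup (Subgroup.centralizer ({z} : Set ↥G₀))) [Q.Normal] (hF : Cfsg.IsOfLargeFischerTypeAt z Q)
    (hcentral : ∃ P : Sylow 2 ↥G₀, z ∈ (P : Subgroup ↥G₀) ∧ ∀ x ∈ (P : Subgroup ↥G₀), Commute x z)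
    (hFX : (Cfsg.generalizedFittingSubgroup ↥(Subgroup.centralizer ({(z : X)} : Set X))).map (Subgroup.subtype _) =
      (Q.map (Subgroup.subtype _)).map G₀.subtype) :
    Nonempty (Fi24 ≃* X) ∧ ∃ E : Set X, IsThreeTranspositionClass E ∧ IsOfTypeM24 X E := by
  obtain ⟨d, Ψ, hΨ⟩ := exists_iso_of_fischer G₀ hidx z Q hF hcentral hFX
  exact ⟨⟨Ψ⟩, conjugatesOf d, hΨ ▸ ThreeTransp.class_image Ψ.toMonoidHom Ψ.surjective Fi24Act.transClass_three
    (fun a ha h => ThreeTransp.ne_one_of_mem Fi24Act.transClass_three.1 ha (Ψ.injective (h.trans (map_one Ψ).symm))),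
    hΨ ▸ FischerClass.typeM24_map Ψ _ FischerTypes.Full.fi24_type⟩

end CfsgLib.M24Recog
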