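import Cfsg.Agent.Lib.FischerClass.MathieuTwentyFourSetting
import Cfsg.Agent.Lib.FischerTypes.TypeTwentyFour

/-!
An involution whose centraliser is identified with the centraliser of a transposition of Fi24.
-/

set_option autoImplicit false
set_option linter.unusedSectionVars false

namespace CfsgLib.M24Recog

open Cfsg.Spor
open CfsgLib.M24 (Pt tp tp_mem comB comB_iff exists_tp tp_inj tp_smul)
open CfsgLib.Fi24Pres (K genK)
open CfsgLib.Fi23Pres (rho)
open CfsgLib.FischerTypes.Full (classK)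

variable {X : Type*} [Group X] [Finite X]

/-- the identification of the centraliser of an involution -/
structure Loc (d : X) (ι : K →* X) : Prop where
  sq : d * d = 1
  ne_one : d ≠ 1
  inj : Function.Injective ι
  range : ∀ c, c ∈ ι.range ↔ Commute c d
  one : ι (1, Multiplicative.ofAdd 1) = d
  perp : ∀ y, (y ∈ conjugatesOf d ∧ y ≠ d ∧ Commute y d) ↔ y ∈ ι '' classK

/-- the element over a point -/
noncomputable def ptKc (p : Pt) : K := (tp p, Multiplicative.ofAdd 1)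

theorem ptKc_mem (p : Pt) : ptKc p ∈ classK := ⟨tp_mem p, rfl⟩

theorem exists_ptKc {k : K} (hk : k ∈ classK) : ∃ p : Pt, ptKc p = k := by
  obtain ⟨p, hp⟩ := exists_tp hk.1
  exact ⟨p, Prod.ext hp hk.2.symm⟩

theorem ptKc_inj {p q : Pt} (h : ptKc p = ptKc q) : p = q := tp_inj (congrArg Prod.fst h)

theorem ptKc_smul (k : K) (p : Pt) : k * ptKc p * k⁻¹ = ptKc (rho k.1 p) :=
  Prod.ext (tp_smul k.1 p) (mul_inv_cancel_comm k.2 _)

theorem ptKc_comm (p q : Pt) : Commute (ptKc p) (ptKc q) ↔ comB p q = true := by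
  rw [comB_iff]
  exact ⟨fun h => h.map (MonoidHom.fst _ _), fun h => Prod.ext h.eq (mul_comm _ _)⟩

theorem ptKc_sq (p : Pt) : ptKc p * ptKc p = 1 :=
  Prod.ext (CfsgLib.ThreeTransp.mul_self_eq_one Fi23Pres.transClass_three.1 (tp_mem p))
    (by decide : Multiplicative.ofAdd (1 : ZMod 2) * Multiplicative.ofAdd 1 = 1)

theorem ptKc_three (p q : Pt) (h : ¬ comB p q = true) :
    ptKc p * ptKc q * ptKc p = ptKc q * ptKc p * ptKc q :=
  Prod.ext (CfsgLib.ThreeTransp.braid Fi23Pres.transClass_three.1 (tp_mem p) (tp_mem q)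
    fun hc => h ((comB_iff p q).2 hc)) rfl

theorem sq_conj {d g : X} (h : d * d = 1) : g * d * g⁻¹ * (g * d * g⁻¹) = 1 := by
  rw [show g * d * g⁻¹ * (g * d * g⁻¹) = g * (d * d) * g⁻¹ by group, h]; group

theorem conj_mem_class {d y : X} (g : X) (hy : y ∈ conjugatesOf d) : g * y * g⁻¹ ∈ conjugatesOf d :=
  IsConj.trans (hy : IsConj d y) (isConj_iff.2 ⟨g, rfl⟩)

namespace Loc

variable {d : X} {ι : K →* X} (L : Loc d ι)
include L

theorem sq_mem {y : X} (hy : y ∈ conjugatesOf d) : y * y = 1 := by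
  obtain ⟨g, rfl⟩ := isConj_iff.1 hy
  exact sq_conj L.sq

theorem inv_mem {y : X} (hy : y ∈ conjugatesOf d) : y⁻¹ = y := inv_eq_of_mul_eq_one_right (L.sq_mem hy)

theorem one_not_mem {y : X} (hy : y ∈ conjugatesOf d) : y ≠ 1 := fun e => by
  obtain ⟨g, rfl⟩ := isConj_iff.1 hy
  exact L.ne_one (by simpa using e)

theorem commute_d (k : K) : Commute (ι k) d := (L.range _).1 ⟨k, rfl⟩

theorem commute_iff (a b : K) : Commute (ι a) (ι b) ↔ Commute a b :=
  ⟨fun h => L.inj (by rw [map_mul, map_mul]; exact h.eq), fun h => h.map ι⟩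

/-- the neighbour over a point -/
theorem pt_mem (p : Pt) :
    ι (ptKc p) ∈ conjugatesOf d ∧ ι (ptKc p) ≠ d ∧ Commute (ι (ptKc p)) d :=
  (L.perp _).2 ⟨_, ptKc_mem p, rfl⟩

theorem exists_pt {y : X} (hy : y ∈ conjugatesOf d) (hne : y ≠ d) (hc : Commute y d) :
    ∃ p : Pt, ι (ptKc p) = y := by
  obtain ⟨k, hk, rfl⟩ := (L.perp y).1 ⟨hy, hne, hc⟩
  obtain ⟨p, rfl⟩ := exists_ptKc hk
  exact ⟨p, rfl⟩

theorem pt_inj {p q : Pt} (h : ι (ptKc p) = ι (ptKc q)) : p = q := ptKc_inj (L.inj h)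

theorem pt_comm (p q : Pt) : Commute (ι (ptKc p)) (ι (ptKc q)) ↔ comB p q = true :=
  (L.commute_iff _ _).trans (ptKc_comm p q)

/-- two members commuting with a third commute or braid -/
theorem three {x y z : X} (hx : x ∈ conjugatesOf d) (hy : y ∈ conjugatesOf d) (hz : z ∈ conjugatesOf d)
    (hxz : Commute x z) (hyz : Commute y z) (h : ¬ Commute x y) : x * y * x = y * x * y := by
  obtain ⟨g, rfl⟩ := isConj_iff.1 hz
  set x' := g⁻¹ * x * g⁻¹⁻¹ with hx'
  set y' := g⁻¹ * y * g⁻¹⁻¹ with hy'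
  have hxd : Commute x' d := by
    have := (Commute.conj_iff g⁻¹).2 hxz
    rwa [show g⁻¹ * (g * d * g⁻¹) * g⁻¹⁻¹ = d by group] at this
  have hyd : Commute y' d := by
    have := (Commute.conj_iff g⁻¹).2 hyz
    rwa [show g⁻¹ * (g * d * g⁻¹) * g⁻¹⁻¹ = d by group] at this
  have hnc : ¬ Commute x' y' := fun hc => h ((Commute.conj_iff g⁻¹).1 hc)
  by_cases hxd' : x' = d
  · exact absurd (hxd' ▸ hyd.symm) hnc
  by_cases hyd' : y' = d
  · exact absurd (hyd' ▸ hxd) hnc
  obtain ⟨p, hp⟩ := L.exists_pt (conj_mem_class g⁻¹ hx) hxd' hxd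
  obtain ⟨q, hq⟩ := L.exists_pt (conj_mem_class g⁻¹ hy) hyd' hyd
  have hb : x' * y' * x' = y' * x' * y' := by
    rw [hx', hy', ← hp, ← hq, ← map_mul, ← map_mul, ptKc_three p q fun hc => hnc ?_, map_mul, map_mul]
    rw [hx', hy', ← hp, ← hq]
    exact (L.pt_comm p q).2 hc
  calc x * y * x = g * (x' * y' * x') * g⁻¹ := by rw [hx', hy']; group
    _ = g * (y' * x' * y') * g⁻¹ := by rw [hb]
    _ = y * x * y := by rw [hx', hy']; group

/-- the centraliser of two commuting members is no smaller than that of the first two -/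
theorem pair_large {x y : X} (hx : x ∈ conjugatesOf d) (hy : y ∈ conjugatesOf d) (hne : x ≠ y) (hc : Commute x y) :
    ∃ k ∈ classK, Nat.card (Subgroup.centralizer ({k} : Set K)) ≤
      Nat.card (Subgroup.centralizer ({x * y} : Set X)) := by
  obtain ⟨g, rfl⟩ := isConj_iff.1 hx
  have hcd : Commute (g⁻¹ * y * g⁻¹⁻¹) d := by
    have := (Commute.conj_iff g⁻¹).2 hc.symm
    rwa [show g⁻¹ * (g * d * g⁻¹) * g⁻¹⁻¹ = d by group] at this
  have hne' : g⁻¹ * y * g⁻¹⁻¹ ≠ d := fun e => hne (by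
    rw [show y = g * (g⁻¹ * y * g⁻¹⁻¹) * g⁻¹ by group, e])
  obtain ⟨k, hk, e⟩ := (L.perp _).1 ⟨conj_mem_class g⁻¹ hy, hne', hcd⟩
  refine ⟨k, hk, ?_⟩
  let f : ↥(Subgroup.centralizer ({k} : Set K)) →* ↥(Subgroup.centralizer ({g * d * g⁻¹ * y} : Set X)) :=
    (((MulAut.conj g).toMonoidHom.comp ι).comp (Subgroup.subtype _)).codRestrict _ fun u => by
      rw [Subgroup.mem_centralizer_singleton_iff,
        show g * d * g⁻¹ * y = g * (d * ι k) * g⁻¹ by rw [e]; group]
      refine ((Commute.conj_iff g).2 ((L.commute_d _).mul_right ?_)).eq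
      exact (show Commute (u : K) k from Subgroup.mem_centralizer_singleton_iff.1 u.2).map ι
  refine Nat.card_le_card_of_injective f fun a b h => Subtype.ext (L.inj ?_)
  exact mul_left_cancel (mul_right_cancel (congrArg Subtype.val h))

end Loc

end CfsgLib.M24Recog
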