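import Cfsg.Agent.Lib.M24Recog.Main
import Cfsg.Agent.Lib.Fi23Inv.PairCent
import Cfsg.Agent.Lib.Fi22USix.Main

/-!
Involutions of Fi23 whose centralisers contain large perfect subgroups.
-/

set_option autoImplicit false
set_option maxRecDepth 100000

namespace CfsgLib.M24Recog.FischerPair

open Cfsg Cfsg.Spor
open scoped commutatorElement
open CfsgLib.Fi23Pres (transClass central subA)
open CfsgLib.Fi23Inv (Frame frame_conj frame_universal pairK pair_frame IsFrameProd)

instance : Finite Fi23 := Fi23Pres.finite_and_card.1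

theorem sq {a : Fi23} (ha : a ∈ transClass) : a * a = 1 :=
  ThreeTransp.mul_self_eq_one Fi23Pres.transClass_three.1 ha

theorem conj_mem {a : Fi23} (g : Fi23) (ha : a ∈ transClass) : g * a * g⁻¹ ∈ transClass :=
  ThreeTransp.class_conjClosed Fi23Pres.transClass_three g a ha

theorem frame_one {a : Fi23} (ha : a ∈ transClass) : Frame transClass [a] := by
  refine ⟨by simp, by simp, by simp, ?_, ?_⟩ <;> simp [ha]

theorem frame_two {a b : Fi23} (ha : a ∈ transClass) (hb : b ∈ transClass) (hne : a ≠ b) (hc : Commute a b) :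
    Frame transClass [a, b] := by
  refine ⟨by simp [hne], by simp, by simp, ?_, ?_⟩
  · simp [ha, hb]
  · intro x hx y hy
    simp only [List.mem_cons, List.not_mem_nil, or_false] at hx hy
    rcases hx with rfl | rfl <;> rcases hy with rfl | rfl
    exacts [Commute.refl _, hc, hc.symm, Commute.refl _]

/-- any two ordered commuting pairs are conjugate -/
theorem pair_move {a b a' b' : Fi23} (ha : a ∈ transClass) (hb : b ∈ transClass) (hne : a ≠ b) (hc : Commute a b)
    (ha' : a' ∈ transClass) (hb' : b' ∈ transClass) (hne' : a' ≠ b') (hc' : Commute a' b') :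
    ∃ g : Fi23, g * a * g⁻¹ = a' ∧ g * b * g⁻¹ = b' := by
  obtain ⟨g, hg⟩ := frame_conj (frame_two ha hb hne hc) (frame_two ha' hb' hne' hc') rfl
  simp only [List.map_cons, List.map_nil, List.cons.injEq, MulAut.conj_apply, and_true] at hg
  exact ⟨g, hg.1, hg.2⟩

theorem mul_not_mem {a b : Fi23} (ha : a ∈ transClass) (hb : b ∈ transClass) (hne : a ≠ b) (hc : Commute a b) :
    a * b ∉ transClass := fun h => by
  have hu := fun d => frame_universal (frame_two ha hb hne hc) d
  have hu' := fun d => frame_universal (frame_one h) d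
  simp only [List.prod_cons, List.prod_nil, mul_one, List.mem_cons, List.not_mem_nil, or_false] at hu hu'
  exact hne (((hu' a).1 ((hu a).2 (Or.inl rfl))).trans ((hu' b).1 ((hu b).2 (Or.inr rfl))).symm)

theorem perm_three : ⁅(⊤ : Subgroup (Equiv.Perm (Fin 3))), ⊤⁆ ≤ Subgroup.zpowers (finRotate 3) := by
  have h1 : ∀ σ τ : Equiv.Perm (Fin 3), ⁅σ, τ⁆ = 1 ∨ ⁅σ, τ⁆ = finRotate 3 ∨ ⁅σ, τ⁆ = (finRotate 3)⁻¹ := by
    decide +kernel
  rw [Subgroup.commutator_le]
  intro σ _ τ _
  rcases h1 σ τ with e | e | e <;> rw [e]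
  exacts [one_mem _, Subgroup.mem_zpowers _, inv_mem (Subgroup.mem_zpowers _)]

/-- a perfect subgroup fixes the members of a frame whose product it centralises -/
theorem perfect_fix {l : List Fi23} (hl : Frame transClass l) {S : Subgroup Fi23} (hS : ⁅S, S⁆ = S)
    (hc : ∀ s ∈ S, Commute s l.prod) {a : Fi23} (ha : a ∈ l) : ∀ s ∈ S, Commute s a := by
  classical
  have hmove : ∀ s : S, ∀ x : {x // x ∈ l}, (s : Fi23) * x * (s : Fi23)⁻¹ ∈ l := by
    intro s x
    have h := ((frame_universal hl _).mpr x.2).map (MulAut.conj (s : Fi23))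
    rw [Fi23Cent.conj_class, MulAut.conj_apply, MulAut.conj_apply, (hc s s.2).eq, mul_inv_cancel_right,
      frame_universal hl] at h
    exact h
  letI : MulAction S {x // x ∈ l} :=
    { smul := fun s x => ⟨(s : Fi23) * x * (s : Fi23)⁻¹, hmove s x⟩
      one_smul := fun x => Subtype.ext (show (1 : Fi23) * x * (1 : Fi23)⁻¹ = x by group)
      mul_smul := fun s t x => Subtype.ext (show (s * t : Fi23) * x * (s * t : Fi23)⁻¹ =
        s * (t * x * (t : Fi23)⁻¹) * (s : Fi23)⁻¹ by group) }
  let f := MulAction.toPermHom S {x // x ∈ l}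
  have hcard : Fintype.card {x // x ∈ l} ≤ 3 := by
    rw [Fintype.card_coe (s := l.toFinset) |>.symm.trans (Fintype.card_congr (Equiv.subtypeEquivRight fun x =>
      List.mem_toFinset)) |>.symm]
    exact (List.toFinset_card_le l).trans hl.le
  obtain ⟨ι⟩ : Nonempty ({x // x ∈ l} ↪ Fin 3) :=
    Function.Embedding.nonempty_of_card_le (by rw [Fintype.card_fin]; exact hcard)
  let F : S →* Equiv.Perm (Fin 3) := (Equiv.Perm.viaEmbeddingHom ι).comp f
  have hp : commutator S = ⊤ := by
    refine Subgroup.map_injective S.subtype_injective ?_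
    rw [Subgroup.map_subtype_commutator, hS, ← MonoidHom.range_eq_map, Subgroup.range_subtype]
  have hF : F.range = ⊥ := by
    have h1 : ⁅F.range, F.range⁆ = F.range := by
      rw [MonoidHom.range_eq_map, ← Subgroup.map_commutator, ← commutator_def, hp]
    have h2 : F.range ≤ Subgroup.zpowers (finRotate 3) :=
      h1 ▸ (Subgroup.commutator_mono le_top le_top).trans perm_three
    rw [eq_bot_iff, ← h1, Subgroup.commutator_le]
    intro x hx y hy
    obtain ⟨i, rfl⟩ := h2 hx
    obtain ⟨j, rfl⟩ := h2 hy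
    rw [Subgroup.mem_bot, commutatorElement_eq_one_iff_mul_comm]
    exact ((Commute.refl _).zpow_zpow i j).eq
  intro s hs
  have hs1 : F ⟨s, hs⟩ = 1 := by
    have : F ⟨s, hs⟩ ∈ F.range := ⟨_, rfl⟩
    rwa [hF, Subgroup.mem_bot] at this
  have hf : f ⟨s, hs⟩ = 1 := Equiv.Perm.viaEmbeddingHom_injective ι (hs1.trans (map_one _).symm)
  have := congrArg Subtype.val (Equiv.ext_iff.1 hf ⟨a, ha⟩)
  exact mul_inv_eq_iff_eq_mul.1 this

/-- the centraliser of two commuting transpositions -/
theorem pair_cent {a b : Fi23} (ha : a ∈ transClass) (hb : b ∈ transClass) (hne : a ≠ b) (hc : Commute a b) :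
    ∃ P : Subgroup Fi23, (∀ x, x ∈ P ↔ Commute x a ∧ Commute x b) ∧ ⁅P, P⁆ = P ∧ Nat.card P = Nat.card pairK ∧
      ∀ x ∈ P, (∀ y ∈ P, Commute x y) → x = 1 ∨ x = a ∨ x = b ∨ x = a * b := by
  have hg0 := Fi23Inv.gen0_trans
  obtain ⟨g, g1, g2⟩ := pair_move (a := central) (b := Fi23Pres.gen 0) (pair_frame.mem _ (by simp)) hg0
    Fi23Inv.gen0_ne_central.symm (pair_frame.comm _ (by simp) _ (by simp)) ha hb hne hc
  obtain ⟨hp, hcen, -⟩ := Fi23Inv.pairK_facts
  have hmem : ∀ x, x ∈ pairK.map (MulAut.conj g).toMonoidHom ↔ Commute x a ∧ Commute x b := fun x => by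
    rw [Subgroup.mem_map_equiv, MulAut.conj_symm_apply, Fi23Inv.mem_pairK, ← g1, ← g2]
    refine and_congr ?_ ?_ <;>
    · refine (Commute.conj_iff g).symm.trans ?_
      rw [show g * (g⁻¹ * x * g) * g⁻¹ = x by group]
  refine ⟨_, hmem, ?_, Subgroup.card_map_of_injective (MulAut.conj g).injective, fun x hx hall => ?_⟩
  · rw [← Subgroup.map_commutator]
    refine congrArg (Subgroup.map _) ?_
    exact (Subgroup.map_subtype_commutator pairK).symm.trans
      (by rw [hp.commutator_eq_top, ← MonoidHom.range_eq_map, Subgroup.range_subtype])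
  · obtain ⟨y, hy, rfl⟩ := hx
    have hyc : (⟨y, hy⟩ : pairK) ∈ Subgroup.center pairK := Subgroup.mem_center_iff.2 fun w => Subtype.ext (by
      have := (hall _ ⟨w, w.2, rfl⟩).map (MulAut.conj g).symm
      simp only [MulEquiv.coe_toMonoidHom, MulEquiv.symm_apply_apply] at this
      exact this.eq.symm)
    have hy' : y ∈ Subgroup.closure ({central, Fi23Pres.gen 0} : Set Fi23) := hcen ▸ ⟨_, hyc, rfl⟩
    have hc0 : Commute central (Fi23Pres.gen 0) := pair_frame.comm _ (by simp) _ (by simp)
    obtain ⟨i, j, hij⟩ := mem_closure_pair_iff hc0 hy'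
    have h1 : ∀ {c : Fi23} (k : ℤ), c * c = 1 → c ^ k = 1 ∨ c ^ k = c := fun {c} k h => by
      rcases Int.even_or_odd' k with ⟨m, rfl | rfl⟩
      · left; rw [zpow_mul, zpow_two, h, one_zpow]
      · right; rw [zpow_add_one, zpow_mul, zpow_two, h, one_zpow, one_mul]
    show MulAut.conj g y = 1 ∨ MulAut.conj g y = a ∨ MulAut.conj g y = b ∨ MulAut.conj g y = a * b
    rw [← hij, ← g1, ← g2]
    rcases h1 i (sq (a := central) (pair_frame.mem _ (by simp))) with e | e <;> rcases h1 j (sq hg0) with e' | e' <;>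
      rw [e, e'] <;> simp [mul_assoc]
where
  mem_closure_pair_iff {G : Type} [Group G] {p q x : G} (h : Commute p q)
      (hx : x ∈ Subgroup.closure ({p, q} : Set G)) : ∃ i j : ℤ, p ^ i * q ^ j = x := by
    induction hx using Subgroup.closure_induction with
    | mem y hy =>
      rcases hy with rfl | rfl
      · exact ⟨1, 0, by simp⟩
      · exact ⟨0, 1, by simp⟩
    | one => exact ⟨0, 0, by simp⟩
    | mul y w _ _ hy hw =>
      obtain ⟨i, j, rfl⟩ := hy
      obtain ⟨k, l, rfl⟩ := hw
      exact ⟨i + k, j + l, by rw [zpow_add, zpow_add, (h.zpow_zpow k j).mul_mul_mul_comm]⟩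
    | inv y _ hy =>
      obtain ⟨i, j, rfl⟩ := hy
      exact ⟨-i, -j, by rw [mul_inv_rev, zpow_neg, zpow_neg, ((h.zpow_zpow i j).inv_inv).eq]⟩

/-- an involution with perfect centraliser is a transposition -/
theorem mem_of_perfect {a : Fi23} (ha : orderOf a = 2)
    (hp : ⁅Subgroup.centralizer ({a} : Set Fi23), Subgroup.centralizer ({a} : Set Fi23)⁆ =
      Subgroup.centralizer ({a} : Set Fi23)) : a ∈ transClass := by
  obtain ⟨l, hl, rfl⟩ := Fi23Inv.involution_frame ha
  match l, hl with
  | [], hl => exact absurd hl.pos (by simp)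
  | [x], hl => simpa using hl.mem x (by simp)
  | x :: y :: r, hl =>
    exfalso
    have hxy : x ≠ y := by have := hl.nodup; simp at this; exact fun e => this.1.1 e
    have hf' : Frame transClass (y :: x :: r) := by
      refine ⟨(List.Perm.swap x y r).nodup_iff.mpr hl.nodup, by simp, by simpa using hl.le, fun a ha => hl.mem a ?_,
        fun a ha b hb => hl.comm a ?_ b ?_⟩ <;> simp only [List.mem_cons] at * <;> tauto
    obtain ⟨g, hg⟩ := frame_conj hl hf' (by simp)
    have hgc : Commute g (x :: y :: r).prod := by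
      have := congrArg List.prod hg
      rw [← map_list_prod, MulAut.conj_apply] at this
      refine mul_inv_eq_iff_eq_mul.1 (this.trans ?_)
      simp only [List.prod_cons, ← mul_assoc]
      rw [(hl.comm x (by simp) y (by simp)).eq]
    have hfix := perfect_fix hl hp (fun s hs => Subgroup.mem_centralizer_singleton_iff.1 hs) (a := x) (by simp) g
      (Subgroup.mem_centralizer_singleton_iff.2 hgc.eq)
    simp only [List.map_cons, List.cons.injEq, MulAut.conj_apply] at hg
    rw [hfix.eq, mul_inv_cancel_right] at hg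
    exact hxy hg.1

/-- the centraliser of one transposition is not that of two -/
theorem single_cent {a x : Fi23} (ha : a ∈ transClass) (hx : ∀ y, Commute y a → Commute x y) : x = 1 ∨ x = a := by
  obtain ⟨g, rfl⟩ := isConj_iff.1 (ha : IsConj central a)
  have hc : ∀ y, Commute y central → Commute (g⁻¹ * x * g) y := fun y hy => by
    have := (Commute.conj_iff g⁻¹).2 (hx (g * y * g⁻¹) ((Commute.conj_iff g).2 hy))
    rwa [inv_inv, show g⁻¹ * (g * y * g⁻¹) * g = y by group] at this
  have hA : g⁻¹ * x * g ∈ subA := by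
    rw [← Fi23Pres.centralizer_central, Subgroup.mem_centralizer_singleton_iff]
    exact (hc central (Commute.refl _)).eq
  have hmem : (⟨_, hA⟩ : subA) ∈ Fi23Pres.zKer := by
    rw [← Fi23Pres.center_eq, Subgroup.mem_center_iff]
    intro y
    have hy : (y : Fi23) ∈ Subgroup.centralizer ({central} : Set Fi23) := by
      rw [Fi23Pres.centralizer_central]; exact y.2
    rw [Subgroup.mem_centralizer_singleton_iff] at hy
    exact Subtype.ext (hc y hy).eq.symm
  rcases Fi22Syl.zKer_cases hmem with h | h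
  · left
    have h' : g⁻¹ * x * g = 1 := congrArg Subtype.val h
    rw [show x = g * (g⁻¹ * x * g) * g⁻¹ by group, h']; group
  · right
    have h' : g⁻¹ * x * g = central := (congrArg Subtype.val h).trans Fi23Pres.zSub_val
    rw [show x = g * (g⁻¹ * x * g) * g⁻¹ by group, h']

theorem pair_lt {a b : Fi23} (ha : a ∈ transClass) (hb : b ∈ transClass) (hne : a ≠ b) (hc : Commute a b)
    {S : Subgroup Fi23} (hS : ⁅S, S⁆ = S) (hcomm : ∀ s ∈ S, Commute s (a * b)) :
    Nat.card S ≠ Nat.card (Subgroup.centralizer ({a} : Set Fi23)) := by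
  intro h
  have hl := frame_two ha hb hne hc
  have hprod : ([a, b] : List Fi23).prod = a * b := by simp
  have hfix := fun {x : Fi23} (hx : x ∈ [a, b]) => perfect_fix hl hS (by rwa [hprod]) hx
  have hle : S ≤ Subgroup.centralizer ({a} : Set Fi23) := fun s hs =>
    Subgroup.mem_centralizer_singleton_iff.2 (hfix (x := a) (by simp) s hs).eq
  have e := Subgroup.eq_of_le_of_card_ge hle h.ge
  rcases single_cent ha (x := b) fun y hy =>
    (hfix (x := b) (by simp) y (e ▸ Subgroup.mem_centralizer_singleton_iff.2 hy.eq)).symm with e' | e'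
  · exact ThreeTransp.ne_one_of_mem Fi23Pres.transClass_three.1 hb e'
  · exact hne e'.symm

theorem pairK_big : 318504960 < Nat.card pairK := by
  obtain ⟨-, -, ⟨φ⟩⟩ := Fi23Inv.pairK_facts
  rw [Subgroup.card_eq_card_quotient_mul_card_subgroup (Subgroup.center pairK), Nat.card_congr φ.toEquiv,
    Fi22USix.card_psu]
  have : 0 < Nat.card (Subgroup.center pairK) := Nat.card_pos
  omega

/-- no four group of conjugate involutions is centralised by so large a perfect group -/
theorem no_four {a b : Fi23} (ha : orderOf a = 2) (hb : b ≠ 1) (hab : a * b ≠ 1) (hc1 : IsConj a b)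
    (hc2 : IsConj a (a * b)) (hcomm : Commute a b) {S : Subgroup Fi23} (hS : ⁅S, S⁆ = S)
    (hSa : ∀ s ∈ S, Commute s a) (hSb : ∀ s ∈ S, Commute s b) : ¬ Nat.card pairK ≤ Nat.card S := by
  intro hle
  obtain ⟨l, hl, rfl⟩ := Fi23Inv.involution_frame ha
  match l, hl with
  | [], hl => exact absurd hl.pos (by simp)
  | [x], hl =>
    have hx := hl.mem x (by simp)
    simp only [List.prod_singleton] at hc1 hc2 hab hcomm
    obtain ⟨g, rfl⟩ := isConj_iff.1 hc1
    obtain ⟨g', hg'⟩ := isConj_iff.1 hc2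
    refine mul_not_mem hx (conj_mem g hx) (fun e => hab (by rw [← e, sq hx])) hcomm ?_
    rw [← hg']; exact conj_mem g' hx
  | [x, y], hl =>
    have hxy : x ≠ y := by have := hl.nodup; simp at this; exact this
    have hx := hl.mem x (by simp)
    have hy := hl.mem y (by simp)
    have hxy' := hl.comm x (by simp) y (by simp)
    obtain ⟨P, hP, -, hPc, hPz⟩ := pair_cent hx hy hxy hxy'
    have hfix := fun {w : Fi23} (hw : w ∈ [x, y]) => perfect_fix hl hS hSa hw
    have hSP : S ≤ P := fun s hs => (hP s).2 ⟨hfix (by simp) s hs, hfix (by simp) s hs⟩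
    have e := Subgroup.eq_of_le_of_card_ge hSP (hPc.trans_le hle)
    have hbP : b ∈ P := (hP b).2 ⟨(hSb x (e ▸ (hP x).2 ⟨Commute.refl x, hxy'⟩)).symm,
      (hSb y (e ▸ (hP y).2 ⟨hxy'.symm, Commute.refl y⟩)).symm⟩
    simp only [List.prod_cons, List.prod_nil, mul_one] at hc1 hab
    have hnot : ∀ w ∈ transClass, ¬ IsConj (x * y) w := fun w hw h => by
      obtain ⟨g, hg⟩ := isConj_iff.1 h.symm
      exact mul_not_mem hx hy hxy hxy' (hg ▸ conj_mem g hw)
    rcases hPz b hbP fun w hw => (hSb w (e.symm ▸ hw)).symm with h | h | h | h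
    · exact hb h
    · exact hnot x hx (h ▸ hc1)
    · exact hnot y hy (h ▸ hc1)
    · exact hab (by rw [h, hxy'.symm.mul_mul_mul_comm, sq hx, sq hy, one_mul])
  | [x, y, w], hl =>
    obtain ⟨p, rfl⟩ := M24.exists_tp (hl.mem x (by simp))
    obtain ⟨q, rfl⟩ := M24.exists_tp (hl.mem y (by simp))
    obtain ⟨r, rfl⟩ := M24.exists_tp (hl.mem w (by simp))
    have hn := hl.nodup
    simp only [List.nodup_cons, List.mem_cons, List.not_mem_nil, or_false, not_or, List.nodup_nil, and_true,
      not_false_eq_true] at hn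
    have h3 := M24.triple_cent_card (fun e => hn.1.1 (congrArg M24.tp e)) (fun e => hn.1.2 (congrArg M24.tp e))
      (fun e => hn.2 (congrArg M24.tp e)) ((M24.comB_iff _ _).2 (hl.comm _ (by simp) _ (by simp)))
      ((M24.comB_iff _ _).2 (hl.comm _ (by simp) _ (by simp))) ((M24.comB_iff _ _).2 (hl.comm _ (by simp) _ (by simp)))
    have h4 : Nat.card S ≤ 318504960 := h3 ▸ Subgroup.card_le_of_le fun s hs => by
      rw [Subgroup.mem_centralizer_singleton_iff]
      simpa [mul_assoc] using (hSa s hs).eq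
    have := pairK_big
    omega
  | _ :: _ :: _ :: _ :: _, hl => exact absurd hl.le (by simp)

end CfsgLib.M24Recog.FischerPair
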