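import Cfsg.Agent.Lib.M24Recog.Small
import Cfsg.Agent.Lib.Fi23Inv.Classes
import Cfsg.Agent.Lib.Fi23Inv.Triples

/-!
Fi24 inside the group: the product of four commuting members is identified by its centraliser, and the
position is the standard one.
-/

set_option autoImplicit false
set_option linter.unusedSectionVars false
set_option maxRecDepth 100000

namespace CfsgLib.M24Recog

open Cfsg Cfsg.Spor CfsgLib.CosetEnum
open CfsgLib.M24 (Pt tp tp_mem exists_tp comB comB_iff smallMid)
open CfsgLib.Fi24Pres (K genK psiK psiK_genK)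
open CfsgLib.Fi23Inv (Frame)

theorem classK_cent {k : K} (hk : k ∈ FischerTypes.Full.classK) :
    321052999680 < Nat.card (Subgroup.centralizer ({k} : Set K)) := by
  haveI : Finite K := Nat.finite_of_card_ne_zero (by rw [Fi24Pres.card_K]; norm_num)
  have h := M24.Quad.conj_orbit_card (⊤ : Subgroup K) k
  rw [top_inf_eq, Subgroup.card_top, Fi24Pres.card_K] at h
  have hle : {y : K | ∃ g ∈ (⊤ : Subgroup K), g * k * g⁻¹ = y}.ncard ≤ 31671 := by
    obtain ⟨p, rfl⟩ := exists_ptKc hk
    refine le_trans (Set.ncard_le_ncard (t := Set.range ptKc) ?_ (Set.toFinite _)) ?_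
    · rintro _ ⟨g, -, rfl⟩
      exact ⟨_, (ptKc_smul g p).symm⟩
    · rw [Set.ncard_range_of_injective fun _ _ h => ptKc_inj h, Nat.card_fin]
      exact le_of_eq rfl
  have := Nat.mul_le_mul_right (Nat.card (Subgroup.centralizer ({k} : Set K))) hle
  omega

theorem cent_conj_card {G : Type*} [Group G] [Finite G] (g x : G) :
    Nat.card (Subgroup.centralizer ({g * x * g⁻¹} : Set G)) ≤ Nat.card (Subgroup.centralizer ({x} : Set G)) := by
  let f : ↥(Subgroup.centralizer ({g * x * g⁻¹} : Set G)) →* ↥(Subgroup.centralizer ({x} : Set G)) :=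
    ((MulAut.conj g⁻¹).toMonoidHom.comp (Subgroup.subtype _)).codRestrict _ fun u => by
      refine Subgroup.mem_centralizer_singleton_iff.2 ?_
      have h : Commute (u : G) (g * x * g⁻¹) := Subgroup.mem_centralizer_singleton_iff.1 u.2
      have := (Commute.conj_iff g⁻¹).2 h
      rw [show g⁻¹ * (g * x * g⁻¹) * g⁻¹⁻¹ = x by group] at this
      exact this.eq
  exact Nat.card_le_card_of_injective f fun a b h =>
    Subtype.ext ((MulAut.conj g⁻¹).injective (congrArg Subtype.val h))

variable {X : Type*} [Group X] [Finite X] {d : X} {ι : K →* X}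

/-- the hypotheses outside the centraliser -/
structure Outer (d : X) (G₀ : Subgroup X) (z : X) : Prop where
  idx : G₀.index = 2
  out : d ∉ G₀
  invol : orderOf z = 2
  even : z ∈ G₀
  comm : Commute d z
  small : Nat.card (Subgroup.centralizer ({z} : Set X)) ≤ 321052999680

theorem Outer.member_out {G₀ : Subgroup X} {z : X} (O : Outer d G₀ z) {y : X} (hy : y ∈ conjugatesOf d) :
    y ∉ G₀ := by
  haveI := Subgroup.normal_of_index_eq_two O.idx
  obtain ⟨g, rfl⟩ := isConj_iff.1 hy
  exact fun h => O.out (by simpa [mul_assoc] using (inferInstance : G₀.Normal).conj_mem _ h g⁻¹)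

variable (L : Loc d ι)
include L

theorem trio_card {G₀ : Subgroup X} {z : X} (O : Outer d G₀ z) {q₁ q₂ q₃ : Pt} (T : Trio q₁ q₂ q₃) :
    Nat.card (Subgroup.centralizer ({ι (trioK q₁ q₂ q₃)} : Set X)) ≤ 321052999680 := by
  obtain ⟨⟨w, e⟩, hk⟩ := (L.range z).2 O.comm.symm
  subst hk
  have hsq : ((w, e) : K) * (w, e) = 1 := L.inj (by
    rw [map_mul, map_one, ← pow_two]; have := pow_orderOf_eq_one (ι (w, e)); rwa [O.invol] at this)
  have hpair : ∀ {x y : X}, x ∈ conjugatesOf d → y ∈ conjugatesOf d → x ≠ y → Commute x y →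
      ι (w, e) = x * y → False := fun hx hy hne hc h => by
    obtain ⟨k, hk, hle⟩ := L.pair_large hx hy hne hc
    rw [← h] at hle
    have := classK_cent hk
    have := O.small
    omega
  rcases eq_or_ne w 1 with rfl | hw
  · exfalso
    rcases (by decide : ∀ e : Multiplicative (ZMod 2), e = 1 ∨ e = Multiplicative.ofAdd 1) e with rfl | rfl
    · have := O.invol
      rw [show ι ((1, 1) : K) = 1 from map_one ι, orderOf_one] at this
      norm_num at this
    · exact O.out (L.one ▸ O.even)
  have h11 : Multiplicative.ofAdd (1 : ZMod 2) * Multiplicative.ofAdd 1 = 1 := (by decide :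
    ∀ a : Multiplicative (ZMod 2), a * a = 1) _
  have he := (by decide : ∀ e : Multiplicative (ZMod 2), e = 1 ∨ e = Multiplicative.ofAdd 1) e
  haveI : Fact (Nat.Prime 2) := ⟨Nat.prime_two⟩
  obtain ⟨l, F, hl⟩ := Fi23Inv.involution_frame (orderOf_eq_prime (by
    rw [pow_two]; exact congrArg Prod.fst hsq) hw)
  have hD : ∀ p, ι (ptKc p) ∈ conjugatesOf d := fun p => (L.pt_mem p).1
  have hout : ∀ p, ι (ptKc p) ∉ G₀ := fun p => O.member_out (hD p)
  have hm := fun {a b : X} => Subgroup.mul_mem_iff_of_index_two O.idx (a := a) (b := b)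
  match l, F, hl with
  | [], F, _ => exact absurd F.pos (by simp)
  | [a], F, hl =>
    exfalso
    obtain ⟨p, rfl⟩ := exists_tp (F.mem a (by simp))
    rw [List.prod_singleton] at hl
    subst hl
    rcases he with rfl | rfl
    · refine hpair (hD p) (IsConj.refl d) (L.pt_mem p).2.1 (L.pt_mem p).2.2 ?_
      rw [← L.one, ← map_mul, ptKc, Prod.mk_mul_mk, mul_one, h11]
    · exact hout p O.even
  | [a, b], F, hl =>
    exfalso
    obtain ⟨p, rfl⟩ := exists_tp (F.mem a (by simp))
    obtain ⟨q, rfl⟩ := exists_tp (F.mem b (by simp))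
    have hpq : tp p ≠ tp q := by have := F.nodup; simp at this; exact this
    rw [List.prod_cons, List.prod_singleton] at hl
    subst hl
    rcases he with rfl | rfl
    · refine hpair (hD p) (hD q) (fun h => hpq (congrArg tp (L.pt_inj h))) ?_ ?_
      · exact (L.pt_comm p q).2 ((comB_iff p q).2 (F.comm _ (by simp) _ (by simp)))
      · rw [← map_mul, ptKc, ptKc, Prod.mk_mul_mk, h11]
    · have h := O.even
      rw [show ((tp p * tp q, Multiplicative.ofAdd 1) : K) = (1, Multiplicative.ofAdd 1) * (ptKc p * ptKc q) by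
        rw [ptKc, ptKc, Prod.mk_mul_mk, Prod.mk_mul_mk, one_mul, h11, mul_one], map_mul, map_mul, L.one, hm, hm] at h
      exact O.out (h.2 ⟨fun h => absurd h (hout p), fun h => absurd h (hout q)⟩)
  | [a, b, c], F, hl =>
    obtain ⟨p, rfl⟩ := exists_tp (F.mem a (by simp))
    obtain ⟨q, rfl⟩ := exists_tp (F.mem b (by simp))
    obtain ⟨r, rfl⟩ := exists_tp (F.mem c (by simp))
    simp only [List.prod_cons, List.prod_nil, mul_one, ← mul_assoc] at hl
    subst hl
    rcases he with rfl | rfl
    swap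
    · exfalso
      have h := O.even
      rw [show ((tp p * tp q * tp r, Multiplicative.ofAdd 1) : K) = ptKc p * ptKc q * ptKc r by
        rw [ptKc, ptKc, ptKc, Prod.mk_mul_mk, Prod.mk_mul_mk, h11, one_mul], map_mul, map_mul, hm, hm] at h
      exact hout r (h.1 ⟨fun h => absurd h (hout p), fun h => absurd h (hout q)⟩)
    have F' : Frame Fi23Pres.transClass [tp q₁, tp q₂, tp q₃] := by
      have c12 := (comB_iff _ _).1 T.c12
      have c13 := (comB_iff _ _).1 T.c13
      have c23 := (comB_iff _ _).1 T.c23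
      refine ⟨?_, by simp, by simp, ?_, ?_⟩
      · simp only [List.nodup_cons, List.mem_cons, List.not_mem_nil, or_false, not_or, not_false_eq_true,
          List.nodup_nil, and_true]
        exact ⟨⟨fun h => T.n12 (M24.tp_inj h), fun h => T.n13 (M24.tp_inj h)⟩, fun h => T.n23 (M24.tp_inj h)⟩
      · intro a ha
        simp only [List.mem_cons, List.not_mem_nil, or_false] at ha
        rcases ha with rfl | rfl | rfl <;> exact tp_mem _
      · intro a ha b hb
        simp only [List.mem_cons, List.not_mem_nil, or_false] at ha hb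
        rcases ha with rfl | rfl | rfl <;> rcases hb with rfl | rfl | rfl <;>
          first | exact Commute.refl _ | assumption | exact c12.symm | exact c13.symm | exact c23.symm
    obtain ⟨g, hg⟩ := Fi23Inv.frame_conj F F' rfl
    simp only [List.map_cons, List.map_nil, List.cons.injEq, and_true] at hg
    have e1 : ι (trioK q₁ q₂ q₃) = ι (g, 1) * ι (tp p * tp q * tp r, 1) * (ι (g, 1))⁻¹ := by
      rw [← map_inv, ← map_mul, ← map_mul, trioK, ← hg.1, ← hg.2.1, ← hg.2.2]
      refine congrArg ι (Prod.ext ?_ (by simp))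
      simp only [Prod.fst_mul, Prod.fst_inv, MulAut.conj_apply]
      group
    rw [e1]
    exact (cent_conj_card _ _).trans O.small
  | _ :: _ :: _ :: _ :: _, F, _ => exact absurd F.le (by simp)

/-- Fi24 embeds -/
theorem exists_emb {G₀ : Subgroup X} {z : X} (O : Outer d G₀ z) :
    ∃ Φ : Fi24 →* X, Function.Injective Φ ∧ (∀ k : K, Φ (psiK k) = ι k) ∧ Φ (Fi24Pres.gen 10) = d := by
  obtain ⟨c, F, hshape⟩ := exists_shape L
  have N := nine_of_shape L F hshape
  have hS : ∀ y : Pt, Sc ι c y ↔ smallMid.testBit y = true :=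
    hshape.resolve_left fun h => not_small L N h fun p₁ p₂ p₃ T => trio_card L O T
  obtain ⟨Φ, hΦ⟩ := exists_hom_of_rel (fam_rel L N) (tau_comm L N hS)
  have hK : ∀ k : K, Φ (psiK k) = ι k := by
    have : (⊤ : Subgroup K) ≤ (Φ.comp psiK).eqLocus ι := by
      rw [← Fi24Pres.gen_K_top, Subgroup.closure_le]
      rintro _ ⟨g, hg, rfl⟩
      show Φ (psiK (genK g)) = ι (genK g)
      rw [psiK_genK hg, hΦ g (hg.trans (by norm_num)), fam_small ι c hg]
    exact fun k => this (Subgroup.mem_top k)
  have h10 : Φ (Fi24Pres.gen 10) = d := by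
    rw [← psiK_genK (show 10 < 11 by norm_num), hK, genK_ten, L.one]
  refine ⟨Φ, ?_, hK, h10⟩
  haveI : Finite Fi24 := Fi24Pres.finite_card.1
  haveI := Fi24Act.simple_ker
  set P := Fi24Act.par with hP
  have hone : ∀ k : K, Φ (psiK k) = 1 → k = 1 := fun k h => L.inj ((hK k).symm.trans (h.trans (map_one ι).symm))
  rcases ((inferInstance : Φ.ker.Normal).subgroupOf P.ker).eq_bot_or_eq_top with h | h
  · rw [← MonoidHom.ker_eq_bot_iff, Subgroup.eq_bot_iff_forall]
    intro n hn
    have hkey : ∀ m, m ∈ Φ.ker → P m = 1 → m = 1 := fun m hm hm' => by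
      have := (Subgroup.eq_bot_iff_forall _).1 h ⟨m, hm'⟩ (Subgroup.mem_subgroupOf.2 hm)
      exact congrArg Subtype.val this
    have hn2 : ∀ g : Fi24, Commute g n := fun g => by
      refine mul_inv_eq_iff_eq_mul.1 (mul_inv_eq_one.1 (hkey (g * n * g⁻¹ * n⁻¹) ?_ ?_))
      · exact mul_mem ((inferInstance : Φ.ker.Normal).conj_mem n hn g) (inv_mem hn)
      · simp [mul_comm (P g)]
    have : n ∈ Subgroup.center Fi24 := Subgroup.mem_center_iff.2 fun g => (hn2 g).eq
    rwa [FischerTypes.Full.fi24_center, Subgroup.mem_bot] at this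
  · exfalso
    have hle : P.ker ≤ Φ.ker := Subgroup.subgroupOf_eq_top.1 h
    obtain ⟨p, q, hpq⟩ : ∃ p q : Pt, p ≠ q := ⟨M24.letterPt 1, M24.letterPt 2, fun h => by
      have := congrArg Fin.val h
      rw [(M24.letterPt_spec (k := 1) (by norm_num)).1, (M24.letterPt_spec (k := 2) (by norm_num)).1] at this
      exact absurd this (by decide +kernel)⟩
    have h2 : ptKc p * ptKc q = 1 := hone _ (hle (by
      rw [MonoidHom.mem_ker, Fi24Act.par_psiK]
      show Multiplicative.ofAdd (1 : ZMod 2) * Multiplicative.ofAdd 1 = 1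
      decide))
    refine hpq (ptKc_inj ?_)
    rw [← inv_eq_of_mul_eq_one_right h2, inv_eq_of_mul_eq_one_right (ptKc_sq p)]

end CfsgLib.M24Recog
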