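import Cfsg.Agent.Lib.M24Recog.Hom
import Cfsg.Agent.Lib.M22Recog.Pair
import Cfsg.Agent.Lib.M23.Fi23Facts

/-!
The image of Fi24 contains the centralisers of the members, of the products of four and of two of them.
-/

set_option autoImplicit false
set_option linter.unusedSectionVars false
set_option maxRecDepth 100000

namespace CfsgLib.M24Recog

open Cfsg Cfsg.Spor CfsgLib.CosetEnum
open CfsgLib.M24 (Pt tp tp_mem exists_tp comB comB_iff Standard)
open CfsgLib.Fi24Pres (K genK psiK psiK_genK)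
open CfsgLib.Fi24Act (transClass)
open CfsgLib.Fi23Pres (rho subA coverZ)
open CfsgLib.M22Recog (centCore centCore_comm centCore_conj centCore_odd odd_of_mem eq_one_of_odd
  inverts_of_fixed_free central_zstar mem_cent)

/-- an odd subgroup of the cover of Fi22 that is normal is trivial -/
theorem subA_odd {Q : Subgroup subA} [hQ : Q.Normal] (ho : Odd (Nat.card Q)) : Q = ⊥ := by
  haveI : Finite Fi22 := Fi22Pres.finite_and_card.1
  haveI : IsSimpleGroup Fi22 := Fi22Pres.isFi22.1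
  rw [Subgroup.eq_bot_iff_forall]
  intro q hq
  have hoq := odd_of_mem ho hq
  rcases (hQ.map M23.toFi22 M23.toFi22_surjective).eq_bot_or_eq_top with h | h
  · have h1 : M23.toFi22 q = 1 := Subgroup.mem_bot.1 (h ▸ Subgroup.mem_map_of_mem _ hq)
    rcases Fi22Syl.zKer_cases (Fi22Syl.toFi22_ker ▸ MonoidHom.mem_ker.2 h1) with e | e
    · exact e
    · refine eq_one_of_odd hoq (Subtype.ext ?_)
      rw [e, Subgroup.coe_mul, Subgroup.coe_one, Fi23Pres.zSub_val,
        ThreeTransp.mul_self_eq_one Fi23Pres.transClass_three.1 M23.coverZ_mem_class]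
  · exfalso
    have hd := Subgroup.card_map_dvd (H := Q) M23.toFi22
    rw [h, Subgroup.card_top, Fi22Pres.card_faithful.1] at hd
    exact Nat.not_odd_iff_even.2 (by decide) (ho.of_dvd_nat hd)

/-- the presented Fi24 as a group of type M(24) -/
theorem exists_pre24 [Finite Fi24] : ∃ P : M24.Pre Fi24 transClass, Standard P := by
  have hT := Fi24Act.transClass_three
  exact M24.exists_pre ⟨hT.1, ThreeTransp.class_conjClosed hT, hT.2.2⟩ FischerTypes.Full.fi24_primitive
    FischerTypes.Full.fi24_type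

theorem psiK_class {k : K} (hk : k ∈ FischerTypes.Full.classK) :
    psiK k ∈ transClass ∧ psiK k ≠ Fi24Pres.gen 10 ∧ Commute (Fi24Pres.gen 10) (psiK k) := by
  have h : psiK k ∈ ThreeTransp.Relations.nbr transClass (Fi24Pres.gen 10) := by
    rw [FischerTypes.Full.nbr_ten]; exact ⟨k, hk, rfl⟩
  exact h

variable {X : Type*} [Group X] [Finite X]

/-- an embedding of Fi24 extending the identification -/
structure Emb (d : X) (ι : K →* X) (Φ : Fi24 →* X) : Prop where
  loc : Loc d ι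
  inj : Function.Injective Φ
  agree : ∀ k : K, Φ (psiK k) = ι k
  ten : Φ (Fi24Pres.gen 10) = d

namespace Emb

variable {d : X} {ι : K →* X} {Φ : Fi24 →* X} (E : Emb d ι Φ)
include E

theorem mem_class {a : Fi24} (ha : a ∈ transClass) : Φ a ∈ conjugatesOf d := by
  obtain ⟨h, rfl⟩ := isConj_iff.1 (ha : IsConj (Fi24Pres.gen 10) a)
  rw [map_mul, map_mul, map_inv, E.ten]
  exact conj_mem_class _ (IsConj.refl d)

theorem cent_d {g : X} (h : Commute g d) : g ∈ Φ.range := by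
  obtain ⟨k, rfl⟩ := (E.loc.range g).2 h
  exact ⟨psiK k, E.agree k⟩

theorem cent_mem {a : Fi24} (ha : a ∈ transClass) {g : X} (h : Commute g (Φ a)) : g ∈ Φ.range := by
  obtain ⟨u, rfl⟩ := isConj_iff.1 (ha : IsConj (Fi24Pres.gen 10) a)
  rw [map_mul, map_mul, map_inv, E.ten] at h
  have h' := (Commute.conj_iff (Φ u)⁻¹).2 h
  rw [show (Φ u)⁻¹ * (Φ u * d * (Φ u)⁻¹) * (Φ u)⁻¹⁻¹ = d by group] at h'
  have := mul_mem (mul_mem (⟨u, rfl⟩ : Φ u ∈ Φ.range) (E.cent_d h')) (inv_mem (⟨u, rfl⟩ : Φ u ∈ Φ.range))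
  rwa [show Φ u * ((Φ u)⁻¹ * g * (Φ u)⁻¹⁻¹) * (Φ u)⁻¹ = g by group] at this

theorem nbr_mem {a : Fi24} (ha : a ∈ transClass) {y : X} (hy : y ∈ conjugatesOf d) (h : Commute y (Φ a)) :
    ∃ b ∈ transClass, Φ b = y := by
  obtain ⟨u, rfl⟩ := isConj_iff.1 (ha : IsConj (Fi24Pres.gen 10) a)
  rw [map_mul, map_mul, map_inv, E.ten] at h
  have h' := (Commute.conj_iff (Φ u)⁻¹).2 h
  rw [show (Φ u)⁻¹ * (Φ u * d * (Φ u)⁻¹) * (Φ u)⁻¹⁻¹ = d by group] at h'
  obtain ⟨b, hb, e⟩ : ∃ b ∈ transClass, Φ b = (Φ u)⁻¹ * y * (Φ u)⁻¹⁻¹ := by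
    by_cases e : (Φ u)⁻¹ * y * (Φ u)⁻¹⁻¹ = d
    · exact ⟨_, Fi24Act.gen_mem (by norm_num), E.ten.trans e.symm⟩
    · obtain ⟨p, hp⟩ := E.loc.exists_pt (conj_mem_class _ hy) e h'
      exact ⟨psiK (ptKc p), (psiK_class (ptKc_mem p)).1, (E.agree _).trans hp⟩
  refine ⟨u * b * u⁻¹, IsConj.trans (hb : IsConj _ b) (isConj_iff.2 ⟨u, rfl⟩), ?_⟩
  rw [map_mul, map_mul, map_inv, e]
  group

theorem in_range {y : X} (hy : y ∈ conjugatesOf d) (h : y ∈ Φ.range) : ∃ b ∈ transClass, Φ b = y := by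
  haveI : Finite Fi24 := Fi24Pres.finite_card.1
  obtain ⟨P, hP⟩ := exists_pre24
  obtain ⟨x, rfl⟩ := h
  obtain ⟨a, ha, hc⟩ := M24.Pre.involution_fix hP (x := x) (E.inj (by rw [map_mul, map_one]; exact E.loc.sq_mem hy))
  exact E.nbr_mem ha hy (hc.map Φ)

theorem fix {g : X} (h : g * d * g⁻¹ ∈ Φ.range) : g ∈ Φ.range := by
  obtain ⟨b, hb, e⟩ := E.in_range (conj_mem_class g (IsConj.refl d)) h
  obtain ⟨u, rfl⟩ := isConj_iff.1 (hb : IsConj (Fi24Pres.gen 10) b)
  rw [map_mul, map_mul, map_inv, E.ten] at e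
  have hc : Commute ((Φ u)⁻¹ * g) d := by
    refine mul_inv_eq_iff_eq_mul.1 ?_
    rw [show (Φ u)⁻¹ * g * d * ((Φ u)⁻¹ * g)⁻¹ = (Φ u)⁻¹ * (g * d * g⁻¹) * Φ u by group, ← e]
    group
  have := mul_mem (⟨u, rfl⟩ : Φ u ∈ Φ.range) (E.cent_d hc)
  rwa [mul_inv_cancel_left] at this

theorem close : ∀ (k : ℕ) {y : X}, y ∈ conjugatesOf d → (d * y) ^ 2 ^ k = 1 → y ∈ Φ.range
  | 0, y, hy, h => by
    rw [pow_zero, pow_one, mul_eq_one_iff_inv_eq, E.loc.inv_mem (IsConj.refl d)] at h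
    exact h ▸ ⟨_, E.ten⟩
  | k + 1, y, hy, h => E.fix (close k (conj_mem_class y (IsConj.refl d)) (by
    rw [show d * (y * d * y⁻¹) = (d * y) ^ 2 by rw [pow_two, E.loc.inv_mem hy]; group, ← pow_mul,
      ← pow_succ', h]))

/-- every point lies in a triple whose product with the first has its centraliser inside -/
theorem quad_le {G₀ : Subgroup X} {z : X} (O : Outer d G₀ z) (q : Pt) : ∃ r s, Trio q r s ∧
    ∀ u, Commute u (ι (trioK q r s)) → u ∈ Φ.range := by
  haveI : Finite Fi24 := Fi24Pres.finite_card.1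
  obtain ⟨p₁, p₂, p₃, T, hz⟩ := exists_trio
  have hbase : ∀ u, Commute u (ι (trioK p₁ p₂ p₃)) → u ∈ Φ.range := by
    have hcz : Nat.card (Subgroup.centralizer ({psiK (trioK p₁ p₂ p₃)} : Set Fi24)) = 321052999680 := by
      obtain ⟨P, hP⟩ := exists_pre24
      rw [← hz]
      exact (⟨P, hP, MulEquiv.refl _, Set.image_id _⟩ : M24.Quad.Ctx Fi24 transClass).cz_card
    set H := (Subgroup.centralizer ({psiK (trioK p₁ p₂ p₃)} : Set Fi24)).map Φ with hH
    have hle : H ≤ Subgroup.centralizer ({ι (trioK p₁ p₂ p₃)} : Set X) := by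
      rintro _ ⟨x, hx, rfl⟩
      rw [Subgroup.mem_centralizer_singleton_iff, ← E.agree]
      exact ((show Commute x _ from Subgroup.mem_centralizer_singleton_iff.1 hx).map Φ).eq
    have heq := Subgroup.eq_of_le_of_card_ge hle (by
      rw [hH, Subgroup.card_map_of_injective E.inj, hcz]
      exact trio_card E.loc O T)
    intro u hu
    have hu' : u ∈ H := heq.symm ▸ Subgroup.mem_centralizer_singleton_iff.2 hu.eq
    obtain ⟨x, -, rfl⟩ := hu'
    exact ⟨x, rfl⟩
  obtain ⟨g, rfl⟩ := M24.exists_move p₁ q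
  refine ⟨rho g p₂, rho g p₃, ⟨fun h => T.n12 ((rho g).injective h), fun h => T.n13 ((rho g).injective h),
    fun h => T.n23 ((rho g).injective h), by rw [M24.comB_smul]; exact T.c12, by rw [M24.comB_smul]; exact T.c13,
    by rw [M24.comB_smul]; exact T.c23⟩, fun u hu => ?_⟩
  have e : trioK (rho g p₁) (rho g p₂) (rho g p₃) = ((g, 1) : K) * trioK p₁ p₂ p₃ * ((g, 1) : K)⁻¹ := by
    refine Prod.ext ?_ (by simp [trioK])
    simp only [trioK, Prod.fst_mul, Prod.fst_inv, ← M24.tp_smul]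
    group
  rw [e, map_mul, map_mul, map_inv] at hu
  have h' := (Commute.conj_iff (ι (g, 1))⁻¹).2 hu
  rw [show (ι (g, 1))⁻¹ * (ι (g, 1) * ι (trioK p₁ p₂ p₃) * (ι (g, 1))⁻¹) * (ι (g, 1))⁻¹⁻¹ =
    ι (trioK p₁ p₂ p₃) by group] at h'
  have hg : ι (g, 1) ∈ Φ.range := ⟨_, E.agree _⟩
  have := mul_mem (mul_mem hg (hbase _ h')) (inv_mem hg)
  rwa [show ι (g, 1) * ((ι (g, 1))⁻¹ * u * (ι (g, 1))⁻¹⁻¹) * (ι (g, 1))⁻¹ = u by group] at this

/-- the centraliser of the product of the first and a neighbour -/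
theorem base_pair {G₀ : Subgroup X} {z : X} (O : Outer d G₀ z) (q : Pt) {g : X}
    (hg : Commute g (d * ι (ptKc q))) : g ∈ Φ.range := by
  haveI : Finite Fi24 := Fi24Pres.finite_card.1
  obtain ⟨P, hP⟩ := exists_pre24
  obtain ⟨he, hne, hed⟩ := E.loc.pt_mem q
  set e := ι (ptKc q) with hedef
  set w := d * e with hw
  have hd2 := E.loc.sq
  have he2 := E.loc.sq_mem he
  have hdw : Commute d w := (Commute.refl d).mul_right hed.symm
  have hew : Commute e w := hed.mul_right (Commute.refl e)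
  have hw2 : w * w = 1 := by rw [hw, hed.mul_mul_mul_comm, hd2, he2, one_mul]
  have hwne : w ≠ 1 := fun h => hne (by
    rw [mul_eq_one_iff_inv_eq.1 (show d * e = 1 from h) |>.symm, E.loc.inv_mem (IsConj.refl d)])
  -- an element of the image moves the pair to itself
  have hperm : ∀ n ∈ Φ.range, Commute n w → n * d * n⁻¹ = d ∨ n * d * n⁻¹ = e := by
    rintro _ ⟨x, rfl⟩ hx
    have hTe := psiK_class (ptKc_mem q)
    have hcl : ∀ {t : Fi24}, t ∈ transClass → x * t * x⁻¹ ∈ transClass := fun ht =>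
      IsConj.trans (ht : IsConj _ _) (isConj_iff.2 ⟨x, rfl⟩)
    have hx' : Commute x (Fi24Pres.gen 10 * psiK (ptKc q)) :=
      E.inj (by simp only [map_mul, E.ten, E.agree]; exact hx.eq)
    rcases P.pair_unique (hcl (Fi24Act.gen_mem (by norm_num))) (hcl hTe.1) (Fi24Act.gen_mem (by norm_num)) hTe.1
      hTe.2.1.symm hTe.2.2 (hTe.2.2.map (MulAut.conj x)) (by
        rw [show x * Fi24Pres.gen 10 * x⁻¹ * (x * psiK (ptKc q) * x⁻¹) =
          x * (Fi24Pres.gen 10 * psiK (ptKc q)) * x⁻¹ by group, hx'.eq, mul_inv_cancel_right]) with ⟨h, -⟩ | ⟨h, -⟩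
    · left; rw [← E.ten, ← map_inv, ← map_mul, ← map_mul, h]
    · right; rw [hedef, ← E.agree, ← E.ten, ← map_inv, ← map_mul, ← map_mul, h]
  -- fixed points of the first on the core
  have hfix : ∀ n ∈ centCore w, Commute n d → n = 1 := by
    intro n hn hnd
    set Qk := (centCore w ⊓ Subgroup.centralizer ({d} : Set X)).comap ι with hQk
    obtain ⟨h, hh⟩ := isConj_iff.1 (tp_mem q : IsConj coverZ (tp q))
    let j : subA →* K := (((MulAut.conj h).toMonoidHom.comp subA.subtype).prod 1)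
    have hjq : ∀ u : subA, Commute (j u) (ptKc q) := fun u => by
      refine Prod.ext ?_ (mul_comm _ _)
      show h * (u : Fi23) * h⁻¹ * tp q = tp q * (h * (u : Fi23) * h⁻¹)
      rw [← hh]
      exact ((Commute.conj_iff h).2 (Fi23Pres.coverZ_comm _ u.2)).eq
    have hjw : ∀ u : subA, Commute (ι (j u)) w := fun u =>
      (E.loc.commute_d _).mul_right ((hjq u).map ι)
    set Q' := Qk.comap j with hQ'
    haveI : Q'.Normal := ⟨fun m hm a => by
      obtain ⟨h1, h2⟩ := hm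
      show ι (j (a * m * a⁻¹)) ∈ centCore w ⊓ Subgroup.centralizer ({d} : Set X)
      rw [map_mul, map_mul, map_inv, map_mul, map_mul, map_inv]
      exact ⟨centCore_conj h1 (hjw a), mem_cent.2 (((E.loc.commute_d _).mul_left (mem_cent.1 h2)).mul_left
        (E.loc.commute_d _).inv_left)⟩⟩
    have hjinj : Function.Injective j := fun a b h' =>
      Subtype.ext (mul_left_cancel (mul_right_cancel (congrArg Prod.fst h')))
    have hodd : Odd (Nat.card Q') := by
      have h1 : Odd (Nat.card ↥(centCore w ⊓ Subgroup.centralizer ({d} : Set X))) :=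
        (centCore_odd w).of_dvd_nat (Subgroup.card_dvd_of_le inf_le_left)
      exact h1.of_dvd_nat ((Subgroup.card_comap_dvd_of_injective _ _ hjinj).trans
        (Subgroup.card_comap_dvd_of_injective _ _ E.loc.inj))
    have hbot := subA_odd hodd
    obtain ⟨⟨x, ε⟩, rfl⟩ := (E.loc.range n).2 hnd
    have hon := odd_of_mem (centCore_odd w) hn
    have hε : ε = 1 := by
      obtain ⟨m, hm⟩ := hon
      have h1 : ((x, ε) : K) ^ (2 * m + 1) = 1 := E.loc.inj (by rw [map_pow, map_one, ← hm, pow_orderOf_eq_one])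
      have h2 := congrArg Prod.snd h1
      rw [Prod.pow_snd, pow_succ, pow_mul] at h2
      have h3 : ∀ a : Multiplicative (ZMod 2), a ^ 2 = 1 := by decide
      simpa [h3] using h2
    subst hε
    have hxq : Commute x (tp q) := by
      have h1 : Commute (ι (x, 1)) e := by
        have := hnd.mul_right (centCore_comm hn)
        rwa [hw, ← mul_assoc, hd2, one_mul] at this
      exact ((E.loc.commute_iff _ _).1 h1).map (MonoidHom.fst _ _)
    have hxA : h⁻¹ * x * h ∈ subA := by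
      rw [← Fi23Pres.centralizer_central, Subgroup.mem_centralizer_singleton_iff]
      rw [← hh] at hxq
      have := (Commute.conj_iff h⁻¹).2 hxq
      rw [show h⁻¹ * (h * Fi23Pres.central * h⁻¹) * h⁻¹⁻¹ = Fi23Pres.central by group, inv_inv] at this
      exact this.eq
    have hju : j ⟨h⁻¹ * x * h, hxA⟩ = (x, 1) := Prod.ext (by
      show h * (h⁻¹ * x * h) * h⁻¹ = x
      group) rfl
    have hmem : (⟨h⁻¹ * x * h, hxA⟩ : subA) ∈ Q' := by
      rw [hQ', Subgroup.mem_comap, hQk, Subgroup.mem_comap, hju]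
      exact ⟨hn, mem_cent.2 hnd⟩
    rw [hbot, Subgroup.mem_bot] at hmem
    rw [← hju, hmem, map_one, map_one]
  -- the core meets the image trivially
  have hin : ∀ n ∈ centCore w, n ∈ Φ.range → n = 1 := by
    intro n hn hnr
    have hnw := centCore_comm hn
    rcases hperm n hnr hnw with h | h
    · exact hfix n hn (mul_inv_eq_iff_eq_mul.1 h)
    · have h2 : n * n * d * (n * n)⁻¹ = d := by
        have he' : n * e * n⁻¹ = d := by
          rw [show e = d * w by rw [hw, ← mul_assoc, hd2, one_mul],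
            show n * (d * w) * n⁻¹ = n * d * n⁻¹ * (n * w * n⁻¹) by group, h, hnw.eq, mul_inv_cancel_right, hw,
            hed.symm.eq, ← mul_assoc, he2, one_mul]
        rw [show n * n * d * (n * n)⁻¹ = n * (n * d * n⁻¹) * n⁻¹ by group, h, he']
      exact eq_one_of_odd (odd_of_mem (centCore_odd w) hn) (hfix _ (mul_mem hn hn) (mul_inv_eq_iff_eq_mul.1 h2))
  obtain ⟨r, s, T, hquad⟩ := E.quad_le O q
  have hinv : ∀ y : Fi24, y ∈ transClass → Commute (Φ y) w →
      ∀ n ∈ centCore w, Φ y * n * (Φ y)⁻¹ = n⁻¹ := fun y hy hyw =>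
    inverts_of_fixed_free (E.loc.sq_mem (E.mem_class hy)) (fun n hn => centCore_conj hn hyw)
      fun n hn hc => hin n hn (E.cent_mem hy hc)
  have hpt : ∀ p : Pt, comB q p = true → Commute (ι (ptKc p)) w := fun p hp =>
    (E.loc.pt_mem p).2.2.mul_right ((E.loc.pt_comm q p).2 hp).symm
  have hcore : centCore w = ⊥ := by
    rw [Subgroup.eq_bot_iff_forall]
    intro n hn
    refine hin n hn (hquad n ?_)
    have hd' : d * n * d⁻¹ = n⁻¹ := by
      have := hinv _ (Fi24Act.gen_mem (show 10 < 12 by norm_num)) (E.ten ▸ hdw) n hn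
      rwa [E.ten] at this
    have hy : ∀ p : Pt, Commute (ι (ptKc p)) w → ι (ptKc p) * n * (ι (ptKc p))⁻¹ = n⁻¹ := fun p hp => by
      have := hinv _ (psiK_class (ptKc_mem p)).1 (by rwa [E.agree]) n hn
      rwa [E.agree] at this
    have he' := hy q hew
    have hr' := hy r (hpt r T.c12)
    have hs' := hy s (hpt s T.c13)
    have hz : ι (trioK q r s) = d * e * ι (ptKc r) * ι (ptKc s) := by
      rw [← E.loc.one, hedef, ← map_mul, ← map_mul, ← map_mul]
      refine congrArg ι (Prod.ext (by simp [trioK, ptKc]) ?_)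
      show (1 : Multiplicative (ZMod 2)) = Multiplicative.ofAdd 1 * Multiplicative.ofAdd 1 *
        Multiplicative.ofAdd 1 * Multiplicative.ofAdd 1
      decide
    have key : ι (trioK q r s) * n * (ι (trioK q r s))⁻¹ = n := by
      rw [hz, show d * e * ι (ptKc r) * ι (ptKc s) * n * (d * e * ι (ptKc r) * ι (ptKc s))⁻¹ =
          d * (e * (ι (ptKc r) * (ι (ptKc s) * n * (ι (ptKc s))⁻¹) * (ι (ptKc r))⁻¹) * e⁻¹) * d⁻¹ by group, hs',
        show ι (ptKc r) * n⁻¹ * (ι (ptKc r))⁻¹ = (ι (ptKc r) * n * (ι (ptKc r))⁻¹)⁻¹ by group, hr', inv_inv, he',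
        show d * n⁻¹ * d⁻¹ = (d * n * d⁻¹)⁻¹ by group, hd', inv_inv]
    exact (mul_inv_eq_iff_eq_mul.1 key).symm
  -- Glauberman
  let Y := Subgroup.centralizer ({w} : Set X)
  let wY : Y := ⟨w, mem_cent.2 (Commute.refl w)⟩
  let dY : Y := ⟨d, mem_cent.2 hdw⟩
  have hcen : ∀ u : Y, Commute u wY := fun u => Subtype.ext (mem_cent.1 u.2).eq
  have ho2 : ∀ u : Y, (u : X) * u = 1 → u ≠ 1 → orderOf u = 2 := fun u h2 h1 =>
    orderOf_eq_prime (by rw [pow_two]; exact Subtype.ext h2) h1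
  have hdwne : dY ≠ wY := fun h => E.loc.one_not_mem he (mul_eq_left.1 (congrArg Subtype.val h : d = d * e).symm)
  have hiso : ∀ a : Y, (dY * (a * dY * a⁻¹)) ^ 4 = 1 → a * dY * a⁻¹ = dY ∨ a * dY * a⁻¹ = dY * wY := by
    intro a h4
    have hr : (a : X) ∈ Φ.range :=
      E.fix (E.close 2 (conj_mem_class _ (IsConj.refl d)) (congrArg Subtype.val h4 :))
    rcases hperm _ hr (mem_cent.1 a.2) with h | h
    · exact Or.inl (Subtype.ext h)
    · refine Or.inr (Subtype.ext ?_)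
      show (a : X) * d * (a : X)⁻¹ = d * w
      rw [h, hw, ← mul_assoc, hd2, one_mul]
  have hz := central_zstar (w := wY) (d := dY) (ho2 _ hw2 fun h => hwne (congrArg Subtype.val h)) hcen
    (ho2 _ hd2 fun h => E.loc.ne_one (congrArg Subtype.val h)) hdwne hiso ⟨g, mem_cent.2 hg⟩
  have hsmall : ∀ {u : Y}, u ∈ oddCore Y → (u : X) = 1 := fun hu =>
    Subgroup.mem_bot.1 (hcore ▸ (Subgroup.mem_map_of_mem Y.subtype hu : _ ∈ centCore w))
  refine E.fix ?_
  rcases hz with h | h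
  · have h' : g * d * g⁻¹ * d = 1 := hsmall h
    exact ⟨Fi24Pres.gen 10, by rw [E.ten, mul_eq_one_iff_eq_inv.1 h', E.loc.inv_mem (IsConj.refl d)]⟩
  · have h' : g * d * g⁻¹ * d * w = 1 := hsmall h
    refine ⟨psiK (ptKc q), ?_⟩
    rw [E.agree, ← hedef]
    rw [mul_assoc _ d w, hw, ← mul_assoc d d e, hd2, one_mul] at h'
    rw [mul_eq_one_iff_eq_inv.1 h', E.loc.inv_mem he]

end Emb

end CfsgLib.M24Recog
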