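import Cfsg.Agent.Lib.M24Recog.Perp
import Cfsg.Agent.Lib.M24.Lifts
import Cfsg.Agent.Lib.FischerTypes.TypeTwentyFour

/-!
The twelve letters in the group, and the map out of Fi24 in the standard position.
-/

set_option autoImplicit false
set_option linter.unusedSectionVars false
set_option maxRecDepth 100000

namespace CfsgLib.M24Recog

open Cfsg.Spor CfsgLib.CosetEnum
open CfsgLib.M24 (Pt tp comB letterPt letterPt_spec smallMid Cox24 Rel24)
open CfsgLib.Fi24Pres (K genK adjB psiK psiK_genK psiK_word)
open CfsgLib.Fi24Act (psiK_injective)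
open CfsgLib.Fi23Pres (rho)

theorem cube_of_braid {G : Type*} [Group G] {a b : G} (ha : a * a = 1) (hb : b * b = 1)
    (h : a * b * a = b * a * b) : (a * b) ^ 3 = 1 := by
  rw [show (a * b) ^ 3 = a * b * a * (b * a * b) by simp [pow_succ, mul_assoc], h,
    show b * a * b * (b * a * b) = b * a * (b * b) * a * b by group, hb, mul_one, mul_assoc b a a, ha, mul_one, hb]

/-- the relations give a map out of Fi24 -/
theorem exists_hom_of_rel {Γ : Type*} [Group Γ] {f : ℕ → Γ} (hR : Rel24 f)
    (htau : Commute (f 11) (prodW f Fi24Pres.tauW)) :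
    ∃ Φ : Fi24 →* Γ, ∀ k < 12, Φ (Fi24Pres.gen k) = f k := by
  let φ : Fi24.Gen → Γ := fun x => f (Fi24Pres.letters.idxOf x)
  have hidx : ∀ x : Fi24.Gen, Fi24Pres.letters.idxOf x < 12 ∧
      Fi24Pres.letters.getD (Fi24Pres.letters.idxOf x) .l = x := by
    intro x; cases x <;> decide
  have hgen : ∀ k < 12, genOf Fi24Pres.letters φ k = f k := fun k hk => by
    rw [genOf_of_lt (show k < Fi24Pres.letters.length from hk)]
    simp only [φ, List.Nodup.idxOf_getElem (by decide) k (show k < Fi24Pres.letters.length from hk)]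
  have hw : ∀ w : List ℕ, (∀ g ∈ w, g < 12) → prodW (genOf Fi24Pres.letters φ) w = prodW f w :=
    fun w hw => prodW_congr fun g hg => hgen g (hw g hg)
  have hrels : ∀ r ∈ coxRelators Fi24.edges ∪ {r | r ∈ Fi24.extra}, FreeGroup.lift φ r = 1 := by
    rintro r (⟨x, -, y, -, rfl⟩ | hr)
    · simp only [map_pow, map_mul, FreeGroup.lift_apply_of]
      have hlab := Fi24Pres.labels _ (hidx x).1 _ (hidx y).1
      rw [(hidx x).2, (hidx y).2] at hlab
      show (f _ * f _) ^ _ = 1
      rw [hlab]
      by_cases e : Fi24Pres.letters.idxOf x = Fi24Pres.letters.idxOf y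
      · rw [if_pos e, e, pow_one, hR.sq]
      rw [if_neg e]
      cases ha : adjB (Fi24Pres.letters.idxOf x) (Fi24Pres.letters.idxOf y)
      · rw [if_neg (by simp), pow_two,
          (hR.cox.comm _ (hidx x).1 _ (hidx y).1 ha).symm.mul_mul_mul_comm, hR.sq, hR.sq, one_mul]
      · rw [if_pos rfl]
        exact cube_of_braid (hR.sq _) (hR.sq _) (hR.cox.braid _ (hidx x).1 _ (hidx y).1 ha)
    · simp only [Set.mem_ofPred_eq, Fi24.extra, List.mem_cons, List.not_mem_nil, or_false] at hr
      have h7 : ∀ g ∈ Fi24Pres.sevenW, g < 12 := by decide +kernel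
      have hz : ∀ g ∈ Fi24Pres.zWord24, g < 12 := by decide +kernel
      rcases hr with rfl | rfl
      · have h1 : prodW (genOf Fi24Pres.letters φ) (10 :: Fi24Pres.sevenW.reverse) = 1 := by
          rw [hw _ (by simpa using h7), prodW_cons, hR.toCox24.prodW_rev, ← hR.ten, mul_inv_cancel]
        refine Eq.trans ?_ h1
        rw [prodW_cons, show prodW (genOf Fi24Pres.letters φ) Fi24Pres.sevenW.reverse =
            (prodW (genOf Fi24Pres.letters φ) Fi24Pres.sevenW)⁻¹ by
          rw [hw _ (by simpa using h7), hR.toCox24.prodW_rev, hw _ h7],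
          Fi24Pres.sevenW, prodW_powWord, map_mul, map_inv, map_pow]
        simp [prodW, genOf, Fi24Pres.letters, Fi24.l, Fi24.a, Fi24.b, Fi24.c, Fi24.d, Fi24.e, Fi24.f,
          Fi24.h, mul_assoc]
      · have h1 : prodW (genOf Fi24Pres.letters φ) Fi24Pres.zWord24 = 1 := by
          rw [hw _ hz, M24.z_rel hR htau]
        refine Eq.trans ?_ h1
        rw [map_pow, Fi24Pres.zWord24, prodW_powWord]
        simp [prodW, genOf, Fi24Pres.letters, Fi24.l, Fi24.k, Fi24.a, Fi24.b, Fi24.c, Fi24.d, Fi24.e,
          Fi24.f, Fi24.g, Fi24.j, Fi24.h, Fi24.i, mul_assoc]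
  refine ⟨PresentedGroup.toGroup hrels, fun k hk => ?_⟩
  rw [← hgen k hk, Fi24Pres.gen, presGen, genOf_of_lt (show k < Fi24Pres.letters.length from hk),
    genOf_of_lt (show k < Fi24Pres.letters.length from hk)]
  exact PresentedGroup.toGroup.of hrels

theorem genK_pt {k : ℕ} (hk : k < 10) : genK k = ptKc (letterPt k) :=
  Prod.ext (letterPt_spec hk).2.symm rfl

theorem genK_ten : genK 10 = ((1, Multiplicative.ofAdd 1) : K) :=
  Prod.ext Fi24Pres.ten_fst rfl

theorem genK_comm {a b : ℕ} (ha : a < 11) (hb : b < 11) (h : adjB a b = false) : Commute (genK a) (genK b) := by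
  refine FischerTypes.Full.psiK_comm ?_
  rw [psiK_genK ha, psiK_genK hb]
  exact Fi24Pres.cox.comm a (by omega) b (by omega) h

theorem genK_braid {a b : ℕ} (ha : a < 11) (hb : b < 11) (h : adjB a b = true) :
    genK a * genK b * genK a = genK b * genK a * genK b := by
  refine psiK_injective ?_
  rw [map_mul, map_mul, map_mul, map_mul, psiK_genK ha, psiK_genK hb]
  exact Fi24Pres.cox.braid a (by omega) b (by omega) h

theorem genK_reverse : ∀ w : List ℕ, prodW genK w.reverse = (prodW genK w)⁻¹
  | [] => by simp
  | g :: w => by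
    rw [List.reverse_cons, prodW_append, genK_reverse w, prodW_cons, prodW_cons, prodW_nil, mul_one, mul_inv_rev,
      Fi24Act.genK_inv]

theorem genK_seven : prodW genK Fi24Pres.sevenW = genK 10 := by
  refine psiK_injective ?_
  rw [psiK_word (by decide +kernel), psiK_genK (by norm_num)]
  exact Fi24Pres.gen_ten.symm

variable {X : Type*} [Group X] [Finite X]

/-- the twelve letters -/
def fam (ι : K →* X) (c : X) (k : ℕ) : X := if k < 11 then ι (genK k) else if k = 11 then c else 1

theorem fam_small (ι : K →* X) (c : X) {k : ℕ} (hk : k < 11) : fam ι c k = ι (genK k) := if_pos hk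

theorem fam_eleven (ι : K →* X) (c : X) : fam ι c 11 = c := by simp [fam]

theorem fam_word (ι : K →* X) (c : X) {w : List ℕ} (hw : ∀ g ∈ w, g < 11) :
    prodW (fam ι c) w = ι (prodW genK w) := by
  rw [map_prodW]
  exact prodW_congr fun g hg => fam_small ι c (hw g hg)

/-- a member commuting with the nine letters but not with the first -/
structure Nine (d : X) (ι : K →* X) (c : X) : Prop extends Far d ι c where
  nine : ∀ k, 1 ≤ k → k < 10 → Sc ι c (letterPt k)
  out : ¬ Sc ι c (letterPt 0)

variable {d : X} {ι : K →* X} (L : Loc d ι)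
include L

theorem nine_of_shape {c : X} (F : Far d ι c)
    (h : (∀ y : Pt, Sc ι c y ↔ Fi24Pres.orbSmallMask.testBit y = true) ∨
      ∀ y : Pt, Sc ι c y ↔ smallMid.testBit y = true) : Nine d ι c := by
  refine ⟨F, fun k h1 h10 => ?_, ?_⟩
  · rcases h with h | h <;> refine (h _).2 ?_ <;> rw [(letterPt_spec h10).1] <;>
      (revert h1; revert k; decide +kernel)
  · rcases h with h | h <;> rw [h, (letterPt_spec (k := 0) (by norm_num)).1] <;> decide +kernel

theorem fam_cox {c : X} (N : Nine d ι c) : Cox24 (fam ι c) where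
  sq g := by
    rcases Nat.lt_or_ge g 11 with h | h
    · rw [fam_small ι c h, ← map_mul, show genK g * genK g = 1 by
        rw [mul_eq_one_iff_eq_inv, Fi24Act.genK_inv], map_one]
    · rcases eq_or_ne g 11 with rfl | hne
      · rw [fam_eleven]; exact L.sq_mem N.mem
      · simp [fam, hne, show ¬ g < 11 by omega]
  cox :=
    { sq := fun g hg => by
        rcases Nat.lt_or_ge g 11 with h | h
        · rw [fam_small ι c h, ← map_mul, show genK g * genK g = 1 by
            rw [mul_eq_one_iff_eq_inv, Fi24Act.genK_inv], map_one]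
        · obtain rfl : g = 11 := by omega
          rw [fam_eleven]; exact L.sq_mem N.mem
      comm := by
        have key : ∀ b < 11, adjB 11 b = false → Commute c (ι (genK b)) := fun b hb h => by
          have hadj : ∀ b < 11, adjB 11 b = false → 1 ≤ b ∧ b < 10 := by decide +kernel
          obtain ⟨h1, h10⟩ := hadj b hb h
          rw [genK_pt h10]
          exact (N.nine b h1 h10).symm
        have hsym : ∀ a < 12, ∀ b < 12, adjB a b = adjB b a := by decide +kernel
        intro a ha b hb h
        rcases Nat.lt_or_ge a 11 with h1 | h1 <;> rcases Nat.lt_or_ge b 11 with h2 | h2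
        · rw [fam_small ι c h1, fam_small ι c h2]; exact (genK_comm h1 h2 h).map ι
        · obtain rfl : b = 11 := by omega
          rw [fam_small ι c h1, fam_eleven]
          exact (key a h1 (hsym a ha 11 hb ▸ h)).symm
        · obtain rfl : a = 11 := by omega
          rw [fam_small ι c h2, fam_eleven]
          exact key b h2 h
        · obtain rfl : a = 11 := by omega
          obtain rfl : b = 11 := by omega
          exact Commute.refl _
      braid := by
        have key : ∀ b < 11, adjB 11 b = true →
            c * ι (genK b) * c = ι (genK b) * c * ι (genK b) := fun b hb h => by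
          have hadj : ∀ b < 11, adjB 11 b = true → b = 0 ∨ b = 10 := by decide +kernel
          rcases hadj b hb h with rfl | rfl
          · rw [genK_pt (by norm_num)]
            refine L.three N.mem (L.pt_mem _).1 (L.pt_mem (letterPt 5)).1 (N.nine 5 (by norm_num) (by norm_num)).symm
              ?_ fun hc => N.out hc.symm
            rw [← genK_pt (by norm_num), ← genK_pt (by norm_num)]
            exact (genK_comm (by norm_num) (by norm_num) (by decide +kernel)).map ι
          · rw [genK_ten, L.one]
            exact L.three N.mem (IsConj.refl d) (L.pt_mem (letterPt 1)).1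
              (N.nine 1 le_rfl (by norm_num)).symm (L.pt_mem _).2.2.symm fun hc => N.not_comm hc.symm
        have hsym : ∀ a < 12, ∀ b < 12, adjB a b = adjB b a := by decide +kernel
        intro a ha b hb h
        rcases Nat.lt_or_ge a 11 with h1 | h1 <;> rcases Nat.lt_or_ge b 11 with h2 | h2
        · rw [fam_small ι c h1, fam_small ι c h2, ← map_mul, ← map_mul, genK_braid h1 h2 h, map_mul, map_mul]
        · obtain rfl : b = 11 := by omega
          rw [fam_small ι c h1, fam_eleven]
          exact (key a h1 (hsym a ha 11 hb ▸ h)).symm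
        · obtain rfl : a = 11 := by omega
          rw [fam_small ι c h2, fam_eleven]
          exact key b h2 h
        · obtain rfl : a = 11 := by omega
          obtain rfl : b = 11 := by omega
          exact absurd h (by decide) }

theorem fam_rel {c : X} (N : Nine d ι c) : Rel24 (fam ι c) :=
  { fam_cox L N with
    ten := by
      rw [fam_small ι c (by norm_num), fam_word ι c (by decide +kernel), genK_seven] }

theorem right_fix {c : X} (N : Nine d ι c) {w : List ℕ} (hw : Fi24Pres.rightOK w = true) :
    Commute c (ι (prodW genK w)) := by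
  have h := M24.right_comm (fam_rel L N) hw
  rwa [fam_eleven, fam_word ι c fun g hg => by
    simp only [Fi24Pres.rightOK, List.all_eq_true, Bool.and_eq_true, Nat.blt_eq] at hw
    exact ((hw g hg).1).trans (by norm_num)] at h

theorem tau_comm {c : X} (N : Nine d ι c) (hS : ∀ y : Pt, Sc ι c y ↔ smallMid.testBit y = true) :
    Commute (fam ι c 11) (prodW (fam ι c) Fi24Pres.tauW) := by
  have h := M24.tau_ok
  simp only [Bool.and_eq_true, List.all_eq_true, Nat.blt_eq] at h
  obtain ⟨⟨⟨hK, hu⟩, hv⟩, hbit⟩ := h
  have hu11 : ∀ g ∈ M24.tauU, g < 11 := fun g hg => by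
    simp only [Fi24Pres.rightOK, List.all_eq_true, Bool.and_eq_true, Nat.blt_eq] at hu
    have := (hu g hg).1; omega
  have hlt : ∀ g ∈ M24.tauV ++ [1] ++ M24.tauV.reverse, g < 11 := by
    simp only [List.forall_mem_append, List.mem_reverse, List.mem_singleton]
    exact ⟨⟨fun g hg => (hv g hg).trans (by norm_num), fun g hg => by omega⟩,
      fun g hg => (hv g hg).trans (by norm_num)⟩
  rw [(fam_rel L N).eq_of_eqK (by decide +kernel) (by
      intro g hg
      rcases List.mem_append.1 hg with hg | hg
      exacts [hu11 g hg, hlt g hg]) hK, prodW_append]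
  refine (M24.right_comm (fam_rel L N) hu).mul_right ?_
  rw [fam_eleven, fam_word ι c hlt, prodW_append, prodW_append, prodW_cons, prodW_nil, mul_one,
    genK_reverse, genK_pt (show 1 < 10 by norm_num), ptKc_smul]
  refine Commute.symm ((hS _).2 ?_)
  rw [show (prodW genK M24.tauV).1 = prodW Fi23Pres.gen M24.tauV from Fi24Pres.fst_prodW _,
    Fi23Pres.setupA.rho_prodW hv, Fi24Pres.revInv_eq_reverse hv, (letterPt_spec (by norm_num)).1]
  exact hbit

end CfsgLib.M24Recog
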