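import Cfsg.Agent.Lib.M24Recog.Inside
import Cfsg.Agent.Lib.FischerClass.MathieuTwentyFour
import Cfsg.Agent.Lib.M24.InvolClasses

/-!
An overgroup with an outer involution whose centraliser is that of a transposition of Fi24 is Fi24.
-/

set_option autoImplicit false
set_option linter.unusedSectionVars false
set_option maxRecDepth 100000

namespace CfsgLib.M24Recog

open Cfsg Cfsg.Spor CfsgLib.CosetEnum
open CfsgLib.M24 (Pt tp tp_mem exists_tp Standard IsProd)
open CfsgLib.Fi24Pres (K genK psiK psiK_genK)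
open CfsgLib.Fi24Act (transClass)

variable {X : Type*} [Group X] [Finite X] {d : X} {ι : K →* X} {Φ : Fi24 →* X}

namespace Emb

variable (E : Emb d ι Φ)
include E

theorem pair_le {G₀ : Subgroup X} {z : X} (O : Outer d G₀ z) {a b : Fi24} (ha : a ∈ transClass)
    (hb : b ∈ transClass) (hne : a ≠ b) (hc : Commute a b) {g : X} (hg : Commute g (Φ (a * b))) : g ∈ Φ.range := by
  obtain ⟨u, rfl⟩ := isConj_iff.1 (ha : IsConj (Fi24Pres.gen 10) a)
  set b' := u⁻¹ * b * u⁻¹⁻¹ with hb'
  have hnb : b' ∈ ThreeTransp.Relations.nbr transClass (Fi24Pres.gen 10) := by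
    refine ⟨IsConj.trans (hb : IsConj _ b) (isConj_iff.2 ⟨u⁻¹, rfl⟩), fun e => hne ?_, ?_⟩
    · rw [← e, hb']; group
    · have := (Commute.conj_iff u⁻¹).2 hc
      rwa [show u⁻¹ * (u * Fi24Pres.gen 10 * u⁻¹) * u⁻¹⁻¹ = Fi24Pres.gen 10 by group] at this
  rw [FischerTypes.Full.nbr_ten] at hnb
  obtain ⟨k, hk, e⟩ := hnb
  obtain ⟨q, rfl⟩ := exists_ptKc hk
  rw [show u * Fi24Pres.gen 10 * u⁻¹ * b = u * (Fi24Pres.gen 10 * b') * u⁻¹ by rw [hb']; group, map_mul, map_mul,
    map_inv, map_mul, E.ten, ← e, E.agree] at hg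
  have h' := (Commute.conj_iff (Φ u)⁻¹).2 hg
  rw [show (Φ u)⁻¹ * (Φ u * (d * ι (ptKc q)) * (Φ u)⁻¹) * (Φ u)⁻¹⁻¹ = d * ι (ptKc q) by group] at h'
  have := mul_mem (mul_mem (⟨u, rfl⟩ : Φ u ∈ Φ.range) (E.base_pair O q h')) (inv_mem (⟨u, rfl⟩ : Φ u ∈ Φ.range))
  rwa [show Φ u * ((Φ u)⁻¹ * g * (Φ u)⁻¹⁻¹) * (Φ u)⁻¹ = g by group] at this

theorem four_le [Finite Fi24] {G₀ : Subgroup X} {z : X} (O : Outer d G₀ z) {P : M24.Pre Fi24 transClass}
    (hP : Standard P) {x : Fi24} (hx : IsProd transClass 4 x) {g : X} (hg : Commute g (Φ x)) : g ∈ Φ.range := by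
  obtain ⟨q⟩ : Nonempty Pt := ⟨M24.letterPt 0⟩
  obtain ⟨r, s, T, hle⟩ := E.quad_le O q
  have hcl := fun p => psiK_class (ptKc_mem p)
  have hinj : ∀ {p p' : Pt}, p ≠ p' → psiK (ptKc p) ≠ psiK (ptKc p') := fun h e =>
    h (ptKc_inj (Fi24Act.psiK_injective e))
  have hcomm : ∀ {p p' : Pt}, M24.comB p p' = true → Commute (psiK (ptKc p)) (psiK (ptKc p')) := fun h =>
    ((ptKc_comm _ _).2 h).map psiK
  have h4 : IsProd transClass 4 (psiK (trioK q r s)) := by
    refine ⟨[Fi24Pres.gen 10, psiK (ptKc q), psiK (ptKc r), psiK (ptKc s)], ?_, rfl, ?_, ?_, ?_⟩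
    · simp [(hcl q).2.1.symm, (hcl r).2.1.symm, (hcl s).2.1.symm, hinj T.n12, hinj T.n13, hinj T.n23]
    · intro a ha
      simp only [List.mem_cons, List.not_mem_nil, or_false] at ha
      rcases ha with rfl | rfl | rfl | rfl
      exacts [Fi24Act.gen_mem (by norm_num), (hcl q).1, (hcl r).1, (hcl s).1]
    · intro a ha b hb
      simp only [List.mem_cons, List.not_mem_nil, or_false] at ha hb
      rcases ha with rfl | rfl | rfl | rfl <;> rcases hb with rfl | rfl | rfl | rfl <;>
        first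
          | exact Commute.refl _
          | exact (hcl _).2.2
          | exact (hcl _).2.2.symm
          | exact hcomm T.c12
          | exact hcomm T.c13
          | exact hcomm T.c23
          | exact (hcomm T.c12).symm
          | exact (hcomm T.c13).symm
          | exact (hcomm T.c23).symm
    · simp only [List.prod_cons, List.prod_nil, mul_one]
      rw [← psiK_genK (show 10 < 11 by norm_num), genK_ten, ← map_mul, ← map_mul, ← map_mul]
      refine congrArg psiK (Prod.ext (by simp [trioK, ptKc, mul_assoc]) ?_)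
      show Multiplicative.ofAdd (1 : ZMod 2) * (Multiplicative.ofAdd 1 *
        (Multiplicative.ofAdd 1 * Multiplicative.ofAdd 1)) = 1
      decide
  obtain ⟨u, rfl⟩ := isConj_iff.1 (M24.Pre.prod_conj hP (by norm_num) le_rfl h4 hx)
  rw [map_mul, map_mul, map_inv, E.agree] at hg
  have h' := (Commute.conj_iff (Φ u)⁻¹).2 hg
  rw [show (Φ u)⁻¹ * (Φ u * ι (trioK q r s) * (Φ u)⁻¹) * (Φ u)⁻¹⁻¹ = ι (trioK q r s) by group] at h'
  have := mul_mem (mul_mem (⟨u, rfl⟩ : Φ u ∈ Φ.range) (hle _ h')) (inv_mem (⟨u, rfl⟩ : Φ u ∈ Φ.range))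
  rwa [show Φ u * ((Φ u)⁻¹ * g * (Φ u)⁻¹⁻¹) * (Φ u)⁻¹ = g by group] at this

theorem even_pair {G₀ : Subgroup X} {z : X} (O : Outer d G₀ z) {a b : Fi24} (ha : a ∈ transClass)
    (hb : b ∈ transClass) : Φ (a * b) ∈ G₀ := by
  rw [map_mul, Subgroup.mul_mem_iff_of_index_two O.idx]
  exact ⟨fun h => absurd h (O.member_out (E.mem_class ha)), fun h => absurd h (O.member_out (E.mem_class hb))⟩

/-- a member and an even involution: an involution commuting with both -/
theorem dihedral {G₀ : Subgroup X} {z : X} (O : Outer d G₀ z) {y w : X} (hy : y ∈ conjugatesOf d) (hw : w ∈ G₀)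
    (hw2 : w * w = 1) : ∃ m, (y * w) ^ m * (y * w) ^ m = 1 ∧ (y * w) ^ m ≠ 1 ∧ Commute y ((y * w) ^ m) ∧
      Commute w ((y * w) ^ m) ∧ ((y * w) ^ m ∉ G₀ → (y * w) ^ m * w ∈ conjugatesOf d) := by
  haveI := Subgroup.normal_of_index_eq_two O.idx
  obtain ⟨u, hu⟩ : ∃ u, u = y * w := ⟨_, rfl⟩
  rw [← hu]
  have hyu : y * u = w := by rw [hu, ← mul_assoc, E.loc.sq_mem hy, one_mul]
  have hui : u⁻¹ = w * y := by
    rw [hu, mul_inv_rev, E.loc.inv_mem hy, inv_eq_of_mul_eq_one_right hw2]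
  have hrefl : ∀ k : ℕ, u ^ k * y = y * (u ^ k)⁻¹ := fun k => by
    have h : SemiconjBy y u⁻¹ u := by
      show y * u⁻¹ = u * y
      rw [hui, hu]; group
    have := h.pow_right k
    rw [inv_pow] at this
    exact this.symm
  have hcj : ∀ k : ℕ, u ^ k * y * (u ^ k)⁻¹ = u ^ (2 * k) * y := fun k => by
    rw [hrefl, mul_assoc, ← mul_inv_rev, ← pow_add, ← two_mul, ← hrefl]
  rcases Nat.even_or_odd' (orderOf u) with ⟨m, hm | hm⟩
  swap
  · exfalso
    have h := conj_mem_class (u ^ m) hy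
    have hn : u ^ (2 * m) * u = 1 := by rw [← pow_succ, ← hm, pow_orderOf_eq_one]
    rw [hcj, mul_eq_one_iff_eq_inv.1 hn, hui, mul_assoc, E.loc.sq_mem hy, mul_one] at h
    exact O.member_out h hw
  have hi2 : u ^ m * u ^ m = 1 := by rw [← pow_add, ← two_mul, ← hm, pow_orderOf_eq_one]
  have hii : (u ^ m)⁻¹ = u ^ m := inv_eq_of_mul_eq_one_right hi2
  have hiy : Commute y (u ^ m) := by
    have := hrefl m
    rw [hii] at this
    exact this.symm
  refine ⟨m, hi2, fun h => ?_, hiy, hyu ▸ hiy.mul_left ((Commute.refl u).pow_right m), fun hodd => ?_⟩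
  · have hpos := orderOf_pos u
    exact pow_ne_one_of_lt_orderOf (by omega) (by omega) h
  have hu' : u ∉ G₀ := by
    rw [hu, Subgroup.mul_mem_iff_of_index_two O.idx]
    exact fun h => O.member_out hy (h.2 hw)
  rcases Nat.even_or_odd' m with ⟨k, hk | hk⟩
  · exfalso
    refine hodd ?_
    rw [hk, pow_mul]
    exact G₀.pow_mem (Subgroup.sq_mem_of_index_two O.idx u) k
  · have h := conj_mem_class (u ^ k) hy
    rw [hcj, show u ^ (2 * k) = u ^ m * u⁻¹ by rw [hk, pow_succ, mul_inv_cancel_right], hui,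
      mul_assoc, mul_assoc w y y, E.loc.sq_mem hy, mul_one] at h
    exact h

/-- the image is everything -/
theorem surjective {G₀ : Subgroup X} {z : X} (O : Outer d G₀ z) : Function.Surjective Φ := by
  haveI : Finite Fi24 := Fi24Pres.finite_card.1
  obtain ⟨P, hP⟩ := exists_pre24
  have hall : ∀ y ∈ conjugatesOf d, y ∈ Φ.range := by
    intro y hy
    by_contra hyr
    -- involutions inside commuting with it are products of three
    have hclass : ∀ x : Fi24, Φ x * Φ x = 1 → Φ x ≠ 1 → Commute y (Φ x) → IsProd transClass 3 x := by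
      intro x h2 h1 hc
      haveI : Fact (Nat.Prime 2) := ⟨Nat.prime_two⟩
      obtain ⟨m, hm1, hm4, hx⟩ := M24.Pre.involution_prod hP (x := x) (orderOf_eq_prime (E.inj (by
        rw [map_pow, map_one, pow_two, h2])) fun h => h1 (by rw [h, map_one]))
      rcases (by omega : m = 1 ∨ m = 2 ∨ m = 3 ∨ m = 4) with rfl | rfl | rfl | rfl
      · exfalso
        obtain ⟨l, -, hlen, hD, -, rfl⟩ := hx
        obtain ⟨a, rfl⟩ := List.length_eq_one_iff.1 hlen
        rw [List.prod_singleton] at hc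
        exact hyr (E.cent_mem (hD a (by simp)) hc)
      · exfalso
        obtain ⟨l, hn, hlen, hD, hcc, rfl⟩ := hx
        obtain ⟨a, b, rfl⟩ := List.length_eq_two.1 hlen
        rw [List.prod_cons, List.prod_singleton] at hc
        exact hyr (E.pair_le O (hD a (by simp)) (hD b (by simp)) (by simpa using hn) (hcc a (by simp) b (by simp)) hc)
      · exact hx
      · exact absurd (E.four_le O hP hx hc) hyr
    have hodd : ∀ x : Fi24, IsProd transClass 3 x → Φ x ∉ G₀ := by
      rintro x ⟨l, -, hlen, hD, -, rfl⟩ h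
      obtain ⟨a, b, c, rfl⟩ := List.length_eq_three.1 hlen
      simp only [List.prod_cons, List.prod_nil, mul_one, map_mul] at h
      rw [Subgroup.mul_mem_iff_of_index_two O.idx] at h
      refine O.member_out (E.mem_class (hD a (by simp))) (h.2 ?_)
      rw [← map_mul]
      exact E.even_pair O (hD b (by simp)) (hD c (by simp))
    -- one pair gives a triple
    obtain ⟨q⟩ : Nonempty Pt := ⟨M24.letterPt 0⟩
    obtain ⟨hb, hne, hcb⟩ := psiK_class (ptKc_mem q)
    have ha : Fi24Pres.gen 10 ∈ transClass := Fi24Act.gen_mem (by norm_num)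
    have hT := Fi24Act.transClass_three.1
    have hwsq : ∀ {a b : Fi24}, a ∈ transClass → b ∈ transClass → Commute a b → Φ (a * b) * Φ (a * b) = 1 :=
      fun ha hb hc => by
        rw [← map_mul, hc.symm.mul_mul_mul_comm, ThreeTransp.mul_self_eq_one hT ha, ThreeTransp.mul_self_eq_one hT hb,
          one_mul, map_one]
    obtain ⟨m, j2, j1, hyj, hwj, -⟩ := E.dihedral O hy (E.even_pair O ha hb) (hwsq ha hb hcb)
    obtain ⟨x, hx⟩ := E.pair_le O ha hb hne.symm hcb hwj.symm
    rw [← hx] at j2 j1 hyj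
    have hx3 := hclass x j2 j1 hyj
    -- a triad and a fourth member
    obtain ⟨r, s, T, -⟩ := E.quad_le O q
    set e := Fi24Pres.gen 10
    set f := psiK (ptKc q)
    set g := psiK (ptKc r)
    set k := psiK (ptKc s)
    have hfg : Commute f g := ((ptKc_comm _ _).2 T.c12).map psiK
    have hfk : Commute f k := ((ptKc_comm _ _).2 T.c13).map psiK
    have hgk : Commute g k := ((ptKc_comm _ _).2 T.c23).map psiK
    obtain ⟨hg, hgne, heg⟩ := psiK_class (ptKc_mem r)
    obtain ⟨hk, hkne, hek⟩ := psiK_class (ptKc_mem s)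
    have hne' : ∀ {p p' : Pt}, p ≠ p' → psiK (ptKc p) ≠ psiK (ptKc p') := fun h e =>
      h (ptKc_inj (Fi24Act.psiK_injective e))
    have h3 : IsProd transClass 3 (e * f * g) := by
      refine ⟨[e, f, g], ?_, rfl, ?_, ?_, by simp [mul_assoc]⟩
      · simp only [List.nodup_cons, List.mem_cons, List.not_mem_nil, or_false, not_false_eq_true, List.nodup_nil,
          and_true, not_or]
        exact ⟨⟨hne.symm, hgne.symm⟩, hne' T.n12⟩
      · intro a ha'
        simp only [List.mem_cons, List.not_mem_nil, or_false] at ha'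
        rcases ha' with rfl | rfl | rfl
        exacts [ha, hb, hg]
      · intro a ha' b hb'
        simp only [List.mem_cons, List.not_mem_nil, or_false] at ha' hb'
        rcases ha' with rfl | rfl | rfl <;> rcases hb' with rfl | rfl | rfl <;>
          first | exact Commute.refl _ | assumption | exact hcb.symm | exact heg.symm | exact hfg.symm
    obtain ⟨u, hu⟩ := isConj_iff.1 (M24.Pre.prod_conj hP (by norm_num) (by norm_num) h3 hx3)
    have hcl : ∀ {t : Fi24}, t ∈ transClass → u * t * u⁻¹ ∈ transClass := fun ht =>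
      IsConj.trans (ht : IsConj _ _) (isConj_iff.2 ⟨u, rfl⟩)
    have hek' : Commute (u * e * u⁻¹) (u * k * u⁻¹) := (Commute.conj_iff u).2 hek
    set w := (u * e * u⁻¹) * (u * k * u⁻¹) with hw
    have hxw : Commute x w := by
      have h0 : Commute (e * f * g) (e * k) :=
        ((Commute.refl e).mul_left hcb.symm |>.mul_left heg.symm).mul_right ((hek.mul_left hfk).mul_left hgk)
      have := (Commute.conj_iff u).2 h0
      rwa [hu, show u * (e * k) * u⁻¹ = w by rw [hw]; group] at this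
    obtain ⟨m', i2, i1, hyi, hwi, hout⟩ := E.dihedral O hy (E.even_pair O (hcl ha) (hcl hk))
      (hwsq (hcl ha) (hcl hk) hek')
    obtain ⟨x', hx'⟩ := E.pair_le O (hcl ha) (hcl hk)
      (fun h => hkne (mul_left_cancel (mul_right_cancel h)).symm) hek' hwi.symm
    have hix : Commute (Φ x) (Φ x') := by
      rw [hx']
      exact (hyj.symm.mul_right (hxw.map Φ)).pow_right m'
    rw [← hx'] at i2 i1 hyi hout
    have hx'3 := hclass x' i2 i1 hyi
    have heq : Φ x' * Φ x = 1 := by
      by_contra h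
      refine hodd _ (hclass (x' * x) ?_ (by rwa [map_mul]) (by rw [map_mul]; exact hyi.mul_right hyj)) ?_
      · rw [map_mul, hix.mul_mul_mul_comm, i2, j2, one_mul]
      · rw [map_mul, Subgroup.mul_mem_iff_of_index_two O.idx]
        exact ⟨fun h => absurd h (hodd _ hx'3), fun h => absurd h (hodd _ hx3)⟩
    have hxx : Φ x' = Φ x := by
      rw [mul_eq_one_iff_eq_inv.1 heq, inv_eq_of_mul_eq_one_right j2]
    obtain ⟨b, hb', eb⟩ := E.in_range (hout (hodd _ hx'3)) (mul_mem ⟨_, rfl⟩ ⟨_, rfl⟩)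
    rw [hxx, ← map_mul] at eb
    have hbx : b = u * (f * g * k) * u⁻¹ := by
      rw [E.inj eb, ← hu]
      show u * (e * f * g) * u⁻¹ * (u * e * u⁻¹ * (u * k * u⁻¹)) = _
      rw [show u * (e * f * g) * u⁻¹ * (u * e * u⁻¹ * (u * k * u⁻¹)) =
        u * (e * f * g * e * k) * u⁻¹ by group]
      have he2 : e * e = 1 := ThreeTransp.mul_self_eq_one hT ha
      rw [show e * f * g * e = f * g by
        rw [mul_assoc e f g, (hcb.mul_right heg).eq, mul_assoc, he2, mul_one]]
    refine P.mul_three_not_mem (hcl hb) (hcl hg) (hcl hk) (fun h => hne' T.n12 (mul_left_cancel (mul_right_cancel h)))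
      (fun h => hne' T.n13 (mul_left_cancel (mul_right_cancel h)))
      (fun h => hne' T.n23 (mul_left_cancel (mul_right_cancel h))) ((Commute.conj_iff u).2 hfg)
      ((Commute.conj_iff u).2 hfk) ((Commute.conj_iff u).2 hgk) ?_
    rwa [show u * f * u⁻¹ * (u * g * u⁻¹) * (u * k * u⁻¹) = u * (f * g * k) * u⁻¹ by group, ← hbx]
  intro g
  exact E.fix (hall _ (conj_mem_class g (IsConj.refl d)))

end Emb

/-- The group is Fi24. -/
theorem exists_iso (G₀ : Subgroup X) (hidx : G₀.index = 2) {d : X} (hd : orderOf d = 2) (hdG : d ∉ G₀)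
    (ι : K →* X) (hι : Function.Injective ι) (hrange : ∀ c, c ∈ ι.range ↔ Commute c d)
    (hone : ι (1, Multiplicative.ofAdd 1) = d)
    (hperp : ∀ y, (y ∈ conjugatesOf d ∧ y ≠ d ∧ Commute y d) ↔ y ∈ ι '' FischerTypes.Full.classK)
    (z : X) (hz : orderOf z = 2) (hzG : z ∈ G₀) (hzd : Commute d z)
    (hcard : Nat.card (Subgroup.centralizer ({z} : Set X)) ≤ 321052999680) :
    ∃ Ψ : Fi24 ≃* X, Ψ '' transClass = conjugatesOf d := by
  have hd2 : d * d = 1 := by rw [← pow_two, ← hd, pow_orderOf_eq_one]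
  have L : Loc d ι := ⟨hd2, fun h => by rw [h, orderOf_one] at hd; norm_num at hd, hι, hrange, hone, hperp⟩
  have O : Outer d G₀ z := ⟨hidx, hdG, hz, hzG, hzd, hcard⟩
  obtain ⟨Φ, hinj, hK, h10⟩ := exists_emb L O
  have E : Emb d ι Φ := ⟨L, hinj, hK, h10⟩
  refine ⟨MulEquiv.ofBijective Φ ⟨hinj, E.surjective O⟩, Set.ext fun y => ⟨?_, fun hy => ?_⟩⟩
  · rintro ⟨a, ha, rfl⟩
    exact E.mem_class ha
  · exact E.in_range hy (E.surjective O y)

/-- The conjugates of the involution are a class of 3-transpositions of type M(24). -/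
theorem type24 (G₀ : Subgroup X) (hidx : G₀.index = 2) {d : X} (hd : orderOf d = 2) (hdG : d ∉ G₀)
    (ι : K →* X) (hι : Function.Injective ι) (hrange : ∀ c, c ∈ ι.range ↔ Commute c d)
    (hone : ι (1, Multiplicative.ofAdd 1) = d)
    (hperp : ∀ y, (y ∈ conjugatesOf d ∧ y ≠ d ∧ Commute y d) ↔ y ∈ ι '' FischerTypes.Full.classK)
    (z : X) (hz : orderOf z = 2) (hzG : z ∈ G₀) (hzd : Commute d z)
    (hcard : Nat.card (Subgroup.centralizer ({z} : Set X)) ≤ 321052999680) :
    IsThreeTranspositionClass (conjugatesOf d) ∧ IsOfTypeM24 X (conjugatesOf d) := by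
  obtain ⟨Ψ, hΨ⟩ := exists_iso G₀ hidx hd hdG ι hι hrange hone hperp z hz hzG hzd hcard
  refine ⟨hΨ ▸ ThreeTransp.class_image Ψ.toMonoidHom Ψ.surjective Fi24Act.transClass_three
    (fun a ha h => ?_), hΨ ▸ FischerClass.typeM24_map Ψ _ FischerTypes.Full.fi24_type⟩
  exact ThreeTransp.ne_one_of_mem Fi24Act.transClass_three.1 ha (Ψ.injective (h.trans (map_one Ψ).symm))

end CfsgLib.M24Recog
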