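import Cfsg.Agent.Lib.M24Recog.Basic
import Cfsg.Agent.Lib.M24.Setting

/-!
The members commuting with two non-commuting ones that have a common neighbour: one of the two standard
shapes.
-/

set_option autoImplicit false
set_option linter.unusedSectionVars false

namespace CfsgLib.M24Recog

open Cfsg.Spor
open CfsgLib.M24 (Pt tp comB comB_iff comB_smul commonNbr common_far nbrIn PerpSet perpSet_nine shape smallMid
  letterPt letterPt_spec)
open CfsgLib.Fi24Pres (K genK)
open CfsgLib.Fi23Pres (rho)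

variable {X : Type*} [Group X] [Finite X]

/-- the points of the members commuting with a given element -/
def Sc (ι : K →* X) (c : X) (p : Pt) : Prop := Commute (ι (ptKc p)) c

/-- a member not commuting with the first and having a common neighbour with it -/
structure Far (d : X) (ι : K →* X) (c : X) : Prop where
  mem : c ∈ conjugatesOf d
  not_comm : ¬ Commute d c
  near : ∃ p, Sc ι c p

variable {d : X} {ι : K →* X} (L : Loc d ι)
include L

theorem Sc_conj (k : K) (c : X) (p : Pt) : Sc ι ((ι k)⁻¹ * c * ι k) p ↔ Sc ι c (rho k.1 p) := by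
  rw [Sc, Sc, ← ptKc_smul, map_mul, map_mul, map_inv, ← Commute.conj_iff (ι k),
    show ι k * ((ι k)⁻¹ * c * ι k) * (ι k)⁻¹ = c by group]

theorem pt_act (p q : Pt) : ι (ptKc p) * ι (ptKc q) * (ι (ptKc p))⁻¹ = ι (ptKc (rho (tp p) q)) := by
  rw [← map_inv, ← map_mul, ← map_mul, ptKc_smul]; rfl

theorem exists_far : ∃ c, Far d ι c := by
  obtain ⟨g, hg⟩ := isConj_iff.1 ((L.pt_mem (letterPt 1)).1 : IsConj d (ι (ptKc (letterPt 1))))
  obtain ⟨h1, h2, h3⟩ := L.pt_mem (letterPt 1)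
  obtain ⟨A, hA⟩ := L.exists_pt (y := g⁻¹ * d * g) (by simpa using conj_mem_class g⁻¹ (IsConj.refl d))
    (fun e => h2 (by
      rw [← hg]; conv_lhs => rw [← e]
      group))
    (by
      rw [← Commute.conj_iff g, hg, show g * (g⁻¹ * d * g) * g⁻¹ = d by group]
      exact h3.symm)
  obtain ⟨u, hu⟩ := M24.exists_move (letterPt 1) A
  have hB : comB A (rho u (letterPt 2)) = false := by
    rw [← hu, comB_smul, (letterPt_spec (k := 1) (by norm_num)).1, (letterPt_spec (k := 2) (by norm_num)).1,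
      M24.Pre.letters_adj 1 (by norm_num) 2 (by norm_num) (by norm_num)]
    rfl
  refine ⟨g * ι (ptKc (rho u (letterPt 2))) * g⁻¹, conj_mem_class g (L.pt_mem _).1, fun hc => ?_, letterPt 1, ?_⟩
  · rw [show d = g * ι (ptKc A) * g⁻¹ by rw [hA]; group, Commute.conj_iff, L.pt_comm, hB] at hc
    cases hc
  · show Commute _ _
    rw [← hg, Commute.conj_iff]
    exact (L.pt_mem _).2.2.symm

theorem S_transport {c : X} (F : Far d ι c) {p : Pt} (hp : Sc ι c p) : ∃ A B : Pt, ∃ ψ : Pt → X,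
    comB A B = false ∧ Function.Injective ψ ∧ (∀ x y, Commute (ψ x) (ψ y) ↔ comB x y = true) ∧
    ψ '' commonNbr A B = (fun q => ι (ptKc q)) '' nbrIn (Sc ι c) p := by
  obtain ⟨ha1, ha2, ha3⟩ := L.pt_mem p
  obtain ⟨g, hg⟩ := isConj_iff.1 (ha1 : IsConj d (ι (ptKc p)))
  obtain ⟨A, hA⟩ := L.exists_pt (y := g⁻¹ * d * g) (by simpa using conj_mem_class g⁻¹ (IsConj.refl d))
    (fun e => ha2 (by
      rw [← hg]; conv_lhs => rw [← e]
      group))
    (by
      rw [← Commute.conj_iff g, hg, show g * (g⁻¹ * d * g) * g⁻¹ = d by group]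
      exact ha3.symm)
  obtain ⟨B, hB⟩ := L.exists_pt (y := g⁻¹ * c * g) (by simpa using conj_mem_class g⁻¹ F.mem)
    (fun e => F.not_comm (by
      have h : ι (ptKc p) = c := by
        rw [← hg]
        conv_lhs => rw [← e]
        group
      exact h ▸ ha3.symm))
    (by
      rw [← Commute.conj_iff g, hg, show g * (g⁻¹ * c * g) * g⁻¹ = c by group]
      exact Commute.symm hp)
  set ψ : Pt → X := fun y => g * ι (ptKc y) * g⁻¹ with hψ
  have hψinj : Function.Injective ψ := fun x y h => L.pt_inj (mul_left_cancel (mul_right_cancel h))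
  have hψc : ∀ x y, Commute (ψ x) (ψ y) ↔ comB x y = true := fun x y => by
    rw [← L.pt_comm]; exact Commute.conj_iff g
  have hψA : ψ A = d := by show g * ι (ptKc A) * g⁻¹ = _; rw [hA]; group
  have hψB : ψ B = c := by show g * ι (ptKc B) * g⁻¹ = _; rw [hB]; group
  have hψmem : ∀ y, ψ y ∈ conjugatesOf d ∧ ψ y ≠ ι (ptKc p) ∧ Commute (ψ y) (ι (ptKc p)) := fun y =>
    ⟨conj_mem_class g (L.pt_mem y).1, fun e => (L.pt_mem y).2.1 (mul_left_cancel (mul_right_cancel (e.trans hg.symm))),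
      hg ▸ (Commute.conj_iff g).2 (L.pt_mem y).2.2⟩
  have hAB : comB A B = false := by
    rw [Bool.eq_false_iff]
    intro h
    rw [← hψc, hψA, hψB] at h
    exact F.not_comm h
  refine ⟨A, B, ψ, hAB, hψinj, hψc, ?_⟩
  ext z
  constructor
  · rintro ⟨y, ⟨⟨y1, y2⟩, y3, y4⟩, rfl⟩
    obtain ⟨q, hq⟩ := L.exists_pt (hψmem y).1 (fun e => y1 (hψinj (e.trans hψA.symm)))
      (hψA ▸ (hψc A y).2 y2).symm
    refine ⟨q, ⟨?_, fun e => ?_, ?_⟩, hq⟩
    · show Commute (ι (ptKc q)) c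
      rw [hq, ← hψB]
      exact ((hψc B y).2 y4).symm
    · rw [e] at hq
      exact (hψmem y).2.1 hq.symm
    · rw [← L.pt_comm, hq]
      exact (hψmem y).2.2.symm
  · rintro ⟨q, ⟨h1, h2, h3⟩, rfl⟩
    obtain ⟨q1, q2, q3⟩ := L.pt_mem q
    rw [← L.pt_comm] at h3
    obtain ⟨y, hy⟩ := L.exists_pt (y := g⁻¹ * ι (ptKc q) * g) (by simpa using conj_mem_class g⁻¹ q1)
      (fun e => h2 (L.pt_inj (by
        rw [← hg]; conv_rhs => rw [← e]
        group)))
      (by
        rw [← Commute.conj_iff g, hg, show g * (g⁻¹ * ι (ptKc q) * g) * g⁻¹ = ι (ptKc q) by group]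
        exact h3.symm)
    have hψy : ψ y = ι (ptKc q) := by show g * ι (ptKc y) * g⁻¹ = _; rw [hy]; group
    refine ⟨y, ⟨⟨fun e => ?_, ?_⟩, fun e => ?_, ?_⟩, hψy⟩
    · exact q2 (by rw [← hψy, e, hψA])
    · rw [← hψc, hψA, hψy]; exact q3.symm
    · exact F.not_comm (by rw [← hψB, ← e, hψy]; exact q3.symm)
    · rw [← hψc, hψB, hψy]; exact Commute.symm h1

theorem perpSet {c : X} (F : Far d ι c) : PerpSet (Sc ι c) := by
  have hinj : Function.Injective fun q => ι (ptKc q) := fun x y h => L.pt_inj h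
  refine ⟨F.near, fun x y hx hy => ?_, fun p hp => ?_, fun p hp => ?_⟩
  · show Commute _ c
    rw [← pt_act L]
    exact (Commute.mul_left hx hy).mul_left (Commute.inv_left hx)
  · obtain ⟨A, B, ψ, hAB, hψ, -, e⟩ := S_transport L F hp
    rw [← Set.ncard_image_of_injective _ hinj, ← e, Set.ncard_image_of_injective _ hψ]
    exact (common_far hAB).1
  · obtain ⟨A, B, ψ, hAB, hψ, hcomm, e⟩ := S_transport L F hp
    obtain ⟨f, hf, hmem⟩ := (common_far hAB).2
    have h : ∀ i, ∃ q : Pt, i < 8 → ι (ptKc q) = ψ (f i) ∧ q ∈ nbrIn (Sc ι c) p := fun i => by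
      by_cases hi : i < 8
      · obtain ⟨q, hq, e'⟩ := (e ▸ Set.mem_image_of_mem ψ (hmem i hi) :
          ψ (f i) ∈ (fun q => ι (ptKc q)) '' nbrIn (Sc ι c) p)
        exact ⟨q, fun _ => ⟨e', hq⟩⟩
      · exact ⟨p, fun h => absurd h hi⟩
    choose q hq using h
    refine ⟨q, fun i hi j hj hne => ⟨fun e' => ?_, ?_⟩, fun i hi => (hq i hi).2⟩
    · exact (hf i hi j hj hne).1 (hψ (by rw [← (hq i hi).1, ← (hq j hj).1, e']))
    · rw [← (hf i hi j hj hne).2, Bool.eq_iff_iff, ← L.pt_comm, (hq i hi).1, (hq j hj).1, hcomm]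

/-- some member is in one of the two positions -/
theorem exists_shape : ∃ c, Far d ι c ∧
    ((∀ y : Pt, Sc ι c y ↔ Fi24Pres.orbSmallMask.testBit y = true) ∨
      ∀ y : Pt, Sc ι c y ↔ smallMid.testBit y = true) := by
  obtain ⟨c, F⟩ := exists_far L
  obtain ⟨g, h9⟩ := perpSet_nine (perpSet L F)
  set k : K := (g, 1) with hk
  have e : Sc ι ((ι k)⁻¹ * c * ι k) = fun x => Sc ι c (rho g x) := funext fun x => propext (Sc_conj L k c x)
  have F' : Far d ι ((ι k)⁻¹ * c * ι k) := by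
    refine ⟨by simpa using conj_mem_class (ι k)⁻¹ F.mem, fun h => F.not_comm ?_, ?_⟩
    · have := (Commute.conj_iff (ι k)).2 h
      rwa [(L.commute_d k).eq, mul_inv_cancel_right,
        show ι k * ((ι k)⁻¹ * c * ι k) * (ι k)⁻¹ = c by group] at this
    · obtain ⟨p, hp⟩ := F.near
      refine ⟨rho g⁻¹ p, (Sc_conj L k c _).2 ?_⟩
      rwa [map_inv, Equiv.Perm.inv_def, Equiv.apply_symm_apply]
  rw [← e] at h9
  exact ⟨_, F', shape (perpSet L F') h9⟩

end CfsgLib.M24Recog
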