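import Cfsg.Agent.Lib.M24Recog.SigData

/-!
The traces of part 3 of the conjugates.
-/

set_option autoImplicit false
set_option maxRecDepth 100000

namespace CfsgLib.M24Recog

theorem sig_ok3 : (sigPart 3).all rowOK = true := by decide +kernel

end CfsgLib.M24Recog
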