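import Cfsg.Agent.Lib.M24Recog.Letters
import Cfsg.Agent.Lib.M24Recog.SigChk0
import Cfsg.Agent.Lib.M24Recog.SigChk1
import Cfsg.Agent.Lib.M24Recog.SigChk2
import Cfsg.Agent.Lib.M24Recog.SigChk3
import Cfsg.Agent.Lib.M24.QuadCount

/-!
The small position would make the centraliser of a product of four commuting members too large.
-/

set_option autoImplicit false
set_option linter.unusedSectionVars false
set_option maxRecDepth 100000

namespace CfsgLib.M24Recog

open Cfsg Cfsg.Spor CfsgLib.CosetEnum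
open CfsgLib.M24 (Pt tp comB letterPt letterPt_spec tp_mem)
open CfsgLib.Fi24Pres (K genK psiK subRight prodW_genK)
open CfsgLib.Fi23Pres (rho)
open CfsgLib.FischerTypes (sigmaOne sigmaOne_spec)

/-- three commuting points -/
structure Trio (p₁ p₂ p₃ : Pt) : Prop where
  n12 : p₁ ≠ p₂
  n13 : p₁ ≠ p₃
  n23 : p₂ ≠ p₃
  c12 : comB p₁ p₂ = true
  c13 : comB p₁ p₃ = true
  c23 : comB p₂ p₃ = true

/-- the element over three commuting points -/
noncomputable def trioK (p₁ p₂ p₃ : Pt) : K := (tp p₁ * tp p₂ * tp p₃, 1)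

theorem exists_trio : ∃ p₁ p₂ p₃, Trio p₁ p₂ p₃ ∧ M24.Quad.zEl = psiK (trioK p₁ p₂ p₃) := by
  haveI : Finite Fi24 := Fi24Pres.finite_card.1
  have hT := Fi24Act.transClass_three
  obtain ⟨P, hP⟩ := M24.exists_pre (G := Fi24) ⟨hT.1, ThreeTransp.class_conjClosed hT, hT.2.2⟩
    FischerTypes.Full.fi24_primitive FischerTypes.Full.fi24_type
  let C : M24.Quad.Ctx Fi24 Fi24Act.transClass := ⟨P, hP, MulEquiv.refl _, Set.image_id _⟩
  obtain ⟨p₁, p₂, p₃, n12, n13, n23, c12, c13, c23, hz, -⟩ := C.quad_points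
  refine ⟨p₁, p₂, p₃, ⟨n12, n13, n23, c12, c13, c23⟩, ?_⟩
  rw [hz, ← Fi24Pres.psiK_genK (show 10 < 11 by norm_num), ← map_mul, genK_ten, trioK]
  refine congrArg psiK (Prod.ext (one_mul _) ?_)
  show Multiplicative.ofAdd (1 : ZMod 2) * Multiplicative.ofAdd 1 = 1
  decide

theorem Trio.sq {p₁ p₂ p₃ : Pt} (T : Trio p₁ p₂ p₃) : trioK p₁ p₂ p₃ * trioK p₁ p₂ p₃ = 1 := by
  have h : ∀ p : Pt, tp p * tp p = 1 := fun p =>
    ThreeTransp.mul_self_eq_one Fi23Pres.transClass_three.1 (tp_mem p)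
  have c12 := (M24.comB_iff _ _).1 T.c12
  have c13 := (M24.comB_iff _ _).1 T.c13
  have c23 := (M24.comB_iff _ _).1 T.c23
  refine Prod.ext ?_ (one_mul _)
  show tp p₁ * tp p₂ * tp p₃ * (tp p₁ * tp p₂ * tp p₃) = 1
  rw [(c13.mul_left c23).symm.mul_mul_mul_comm, c12.symm.mul_mul_mul_comm, h, h, h, one_mul, one_mul]

/-- a conjugating element under which the outer member commutes with the product lands in the nine -/
theorem right_of_commute {k z : K} (h : Commute (psiK k * Fi24Pres.gen 11 * (psiK k)⁻¹) (psiK z))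
    (hz : z.2 = 1) (hz2 : z * z = 1) : k⁻¹ * z * k ∈ subRight := by
  set u := k⁻¹ * z * k with hu
  have hc : Commute (psiK u) (Fi24Pres.gen 11) := by
    rw [← Commute.conj_iff (psiK k), ← map_inv, ← map_mul, ← map_mul,
      show k * u * k⁻¹ = z by rw [hu]; group, map_inv]
    exact h.symm
  have hm := (FischerTypes.Full.commute_eleven u).1 hc
  have hu2 : u * u = 1 := by rw [hu, show k⁻¹ * z * k * (k⁻¹ * z * k) = k⁻¹ * (z * z) * k by group, hz2]; group
  have hs : sigmaOne ⟨u, hm⟩ * sigmaOne ⟨u, hm⟩ = 1 := by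
    rw [← map_mul, show (⟨u, hm⟩ * ⟨u, hm⟩ : Fi24Act.subS1) = 1 from Subtype.ext hu2, map_one]
  have hsign : Equiv.Perm.sign (sigmaOne ⟨u, hm⟩) = 1 := by
    rw [← (sigmaOne_spec ⟨u, hm⟩).2, show ((⟨u, hm⟩ : Fi24Act.subS1) : K).2 = 1 by
      show u.2 = 1
      rw [hu, Prod.snd_mul, Prod.snd_mul, Prod.snd_inv, hz, mul_one, inv_mul_cancel]]
    simp
  have h1 : sigmaOne ⟨u, hm⟩ = 1 :=
    (by decide +kernel : ∀ σ : Equiv.Perm (Fin 3), σ * σ = 1 → Equiv.Perm.sign σ = 1 → σ = 1) _ hs hsign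
  obtain ⟨w, -, e⟩ : (⟨u, hm⟩ : Fi24Act.subS1) ∈
      (commutator ↥FischerTypes.subEight).map FischerTypes.eightToS1 :=
    FischerTypes.card_commutator_eight.2.2.symm ▸ MonoidHom.mem_ker.2 h1
  have e' : (w : K) = u := congrArg Subtype.val e
  exact e' ▸ FischerTypes.subEight_le w.2

theorem row_commute {r : ℕ × ℕ × ℕ} (hr : r.1 < 320) :
    Commute (psiK (prodW genK (rowWord r)) * Fi24Pres.gen 11 * (psiK (prodW genK (rowWord r)))⁻¹)
      M24.Quad.zEl := by
  have ht : Commute (psiK (prodW genK (if r.2.1 = 0 then [] else Fi24Pres.tauW))) (Fi24Pres.gen 11) := by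
    split
    · simp
    · exact (FischerTypes.Full.commute_eleven _).2 Fi24Act.tau_mem
  set t := prodW genK (if r.2.1 = 0 then [] else Fi24Pres.tauW)
  set k := prodW genK (M24.Quad.outW (184 + r.1))
  rw [show prodW genK (rowWord r) = k * t from prodW_append _ _ _, map_mul,
    show psiK k * psiK t * Fi24Pres.gen 11 * (psiK k * psiK t)⁻¹ =
      psiK k * (psiK t * Fi24Pres.gen 11 * (psiK t)⁻¹) * (psiK k)⁻¹ by group,
    ht.eq, mul_inv_cancel_right, ← M24.Quad.out_eq (by omega)]
  exact M24.Quad.memb_comm_z (by omega)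

theorem rows_ok {r : ℕ × ℕ × ℕ} (h : r ∈ sigRows) : rowOK r = true := by
  have hsplit : sigRows = sigPart 0 ++ sigPart 1 ++ sigPart 2 ++ sigPart 3 := by decide +kernel
  rw [hsplit] at h
  simp only [List.mem_append] at h
  rcases h with ((h | h) | h) | h
  exacts [List.all_eq_true.1 sig_ok0 r h, List.all_eq_true.1 sig_ok1 r h, List.all_eq_true.1 sig_ok2 r h,
    List.all_eq_true.1 sig_ok3 r h]

variable {X : Type*} [Group X] [Finite X]

/-- the member of a row -/
noncomputable def rowMem (ι : K →* X) (c : X) (r : ℕ × ℕ × ℕ) : X :=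
  ι (prodW genK (rowWord r)) * c * (ι (prodW genK (rowWord r)))⁻¹

variable {d : X} {ι : K →* X} (L : Loc d ι)
include L

theorem right_commute {c : X} (N : Nine d ι c) {u : K} (hu : u ∈ subRight) : Commute c (ι u) := by
  have hle : subRight ≤ (Subgroup.centralizer ({c} : Set X)).comap ι := by
    refine (Subgroup.closure_le _).2 ?_
    rintro _ ⟨g, h1, h10, rfl⟩
    show ι (genK g) ∈ Subgroup.centralizer ({c} : Set X)
    rw [Subgroup.mem_centralizer_singleton_iff, genK_pt h10]
    exact (N.nine g h1 h10).eq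
  exact (show Commute (ι u) c from Subgroup.mem_centralizer_singleton_iff.1 (hle hu)).symm

theorem row_facts {c : X} (N : Nine d ι c) {p₁ p₂ p₃ : Pt} (T : Trio p₁ p₂ p₃)
    (hzEl : M24.Quad.zEl = psiK (trioK p₁ p₂ p₃)) {r : ℕ × ℕ × ℕ} (hr : r.1 < 320) :
    Commute (rowMem ι c r) (ι (trioK p₁ p₂ p₃)) ∧ ¬ Commute d (rowMem ι c r) ∧
      ∃ g, Commute g (ι (trioK p₁ p₂ p₃)) ∧ g * d * g⁻¹ = rowMem ι c r := by
  set a := prodW genK (rowWord r)
  set z := trioK p₁ p₂ p₃
  have h := row_commute hr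
  rw [hzEl] at h
  have hu := right_commute L N (right_of_commute h rfl T.sq)
  have h1 : Commute (rowMem ι c r) (ι z) := by
    have := (Commute.conj_iff (ι a)).2 hu
    rwa [show ι a * ι (a⁻¹ * z * a) * (ι a)⁻¹ = ι z by
      rw [← map_inv, ← map_mul, ← map_mul]; congr 1; group] at this
  have hda : ι a * d * (ι a)⁻¹ = d := by rw [(L.commute_d a).eq, mul_inv_cancel_right]
  have h2 : ¬ Commute d (rowMem ι c r) := fun hc => N.not_comm (by
    rw [← hda] at hc
    exact (Commute.conj_iff (ι a)).1 hc)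
  refine ⟨h1, h2, d * rowMem ι c r, (L.commute_d z).symm.mul_left h1, ?_⟩
  have hmem : rowMem ι c r ∈ conjugatesOf d := conj_mem_class _ N.mem
  have hp : Commute (ι a * ι (ptKc (letterPt 1)) * (ι a)⁻¹) d := by
    have := (Commute.conj_iff (ι a)).2 (L.pt_mem (letterPt 1)).2.2
    rwa [hda] at this
  have hb := L.three (IsConj.refl d) hmem (conj_mem_class (ι a) (L.pt_mem (letterPt 1)).1) hp.symm
    ((Commute.conj_iff (ι a)).2 (N.nine 1 le_rfl (by norm_num)).symm) h2
  rw [mul_inv_rev, L.inv_mem hmem, L.inv_mem (IsConj.refl d),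
    show d * rowMem ι c r * d * (rowMem ι c r * d) = d * (rowMem ι c r * d * rowMem ι c r) * d by group, ← hb,
    show d * (d * rowMem ι c r * d) * d = d * d * rowMem ι c r * (d * d) by group, L.sq, one_mul, mul_one]

theorem row_trace {c : X} (hS : ∀ y : Pt, Sc ι c y ↔ Fi24Pres.orbSmallMask.testBit y = true)
    (r : ℕ × ℕ × ℕ) (p : Pt) : Sc ι (rowMem ι c r) p ↔
      Fi24Pres.orbSmallMask.testBit (Fi23Pres.certA.run p (Fi24Pres.strip (rowWord r))) = true := by
  set w := rowWord r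
  have e : rowMem ι c r = (ι (prodW genK w.reverse))⁻¹ * c * ι (prodW genK w.reverse) := by
    rw [rowMem, genK_reverse, map_inv, inv_inv]
  have hlt := Fi24Pres.strip_lt w
  rw [e, Sc_conj L, hS, prodW_genK]
  show Fi24Pres.orbSmallMask.testBit (rho (prodW Fi23Pres.gen (Fi24Pres.strip w.reverse)) p : ℕ) = true ↔ _
  rw [Fi23Pres.setupA.rho_prodW (Fi24Pres.strip_lt _), Fi24Pres.revInv_eq_reverse (Fi24Pres.strip_lt _),
    show Fi24Pres.strip w.reverse = (Fi24Pres.strip w).reverse from List.filter_reverse .., List.reverse_reverse]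

/-- The small position does not occur. -/
theorem not_small {c : X} (N : Nine d ι c)
    (hS : ∀ y : Pt, Sc ι c y ↔ Fi24Pres.orbSmallMask.testBit y = true)
    (hz : ∀ p₁ p₂ p₃, Trio p₁ p₂ p₃ →
      Nat.card (Subgroup.centralizer ({ι (trioK p₁ p₂ p₃)} : Set X)) ≤ 321052999680) : False := by
  classical
  obtain ⟨p₁, p₂, p₃, T, hzEl⟩ := exists_trio
  set z := trioK p₁ p₂ p₃ with hzdef
  set H := Subgroup.centralizer ({ι z} : Set X) with hH
  let R : Fin sigRows.length → ℕ × ℕ × ℕ := fun i => sigRows[i]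
  have hR : ∀ i, rowOK (R i) = true := fun i => rows_ok (List.getElem_mem _)
  have hlt : ∀ i, (R i).1 < 320 := fun i => by
    have := hR i
    simp only [rowOK, Bool.and_eq_true, Nat.blt_eq] at this
    exact this.1
  have hrow := fun i => row_facts L N T hzEl (hlt i)
  let F : Fin sigRows.length × Bool → X := fun q =>
    if q.2 then d * rowMem ι c (R q.1) * d⁻¹ else rowMem ι c (R q.1)
  have hone : ∀ (p : Pt) (y : X), Sc ι (d * y * d⁻¹) p ↔ Sc ι y p := fun p y => by
    show Commute _ _ ↔ Commute _ _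
    conv_lhs => rw [show ι (ptKc p) = d * ι (ptKc p) * d⁻¹ by
      rw [← (L.commute_d (ptKc p)).eq, mul_inv_cancel_right]]
    exact Commute.conj_iff d
  have hF : ∀ q p, Sc ι (F q) p ↔ Sc ι (rowMem ι c (R q.1)) p := fun q p => by
    obtain ⟨i, b⟩ := q
    cases b
    · exact Iff.rfl
    · exact hone p _
  obtain ⟨hmono, hbound⟩ := sigRows_distinct
  have hkey : ∀ i j, (∀ p, Sc ι (rowMem ι c (R i)) p ↔ Sc ι (rowMem ι c (R j)) p) → i = j := by
    intro i j h
    have ht : traceOf (rowWord (R i)) = traceOf (rowWord (R j)) := by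
      refine List.map_congr_left fun p hp => Bool.eq_iff_iff.2 ?_
      have hp' : p < Fi23Pres.certA.N := (by decide +kernel : ∀ p ∈ sigPts, p < Fi23Pres.certA.N) p hp
      rw [← row_trace L hS _ ⟨p, hp'⟩, ← row_trace L hS _ ⟨p, hp'⟩]
      exact h _
    have hi := hR i
    have hj := hR j
    simp only [rowOK, Bool.and_eq_true, beq_iff_eq] at hi hj
    rw [hi.2, hj.2] at ht
    have hb : ∀ i, (R i).2.2 < 2 ^ 38 := fun i => by
      have := List.all_eq_true.1 hbound _ (List.getElem_mem i.2)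
      simpa [R] using this
    have hv : (R i).2.2 = (R j).2.2 := by
      refine Nat.eq_of_testBit_eq fun k => ?_
      rcases Nat.lt_or_ge k 38 with hk | hk
      · exact List.map_inj_left.1 ht k (List.mem_range.2 hk)
      · rw [Nat.testBit_lt_two_pow ((hb i).trans_le (Nat.pow_le_pow_right (by norm_num) hk)),
          Nat.testBit_lt_two_pow ((hb j).trans_le (Nat.pow_le_pow_right (by norm_num) hk))]
    refine Fin.ext ?_
    have hnd : (sigRows.map fun r => r.2.2).Nodup := hmono.imp fun h => ne_of_lt h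
    exact (List.Nodup.getElem_inj_iff hnd (hi := by simp) (hj := by simp)).1 (by simpa [R] using hv)
  have hinj : Function.Injective F := by
    rintro ⟨i, a⟩ ⟨j, b⟩ h
    obtain rfl := hkey i j fun p => by rw [← hF (i, a) p, ← hF (j, b) p, h]
    have hne : ¬ d * rowMem ι c (R i) * d⁻¹ = rowMem ι c (R i) := fun e => (hrow i).2.1 (mul_inv_eq_iff_eq_mul.1 e)
    cases a <;> cases b
    · rfl
    · exact absurd h.symm hne
    · exact absurd h hne
    · rfl
  have hdz : Commute d (ι z) := (L.commute_d z).symm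
  have hsub : Set.range F ⊆ {y : X | ∃ h ∈ H, h * d * h⁻¹ = y} := by
    rintro _ ⟨⟨i, b⟩, rfl⟩
    obtain ⟨g, hg, e⟩ := (hrow i).2.2
    cases b
    · exact ⟨g, Subgroup.mem_centralizer_singleton_iff.2 hg.eq, e⟩
    · refine ⟨d * g, Subgroup.mem_centralizer_singleton_iff.2 (hdz.mul_left hg).eq, ?_⟩
      show d * g * d * (d * g)⁻¹ = d * rowMem ι c (R i) * d⁻¹
      rw [← e]; group
  have hcount : 512 ≤ {y : X | ∃ h ∈ H, h * d * h⁻¹ = y}.ncard := by
    refine le_trans ?_ (Set.ncard_le_ncard hsub (Set.toFinite _))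
    rw [Set.ncard_range_of_injective hinj, Nat.card_prod, Nat.card_fin, sigRows_length, Nat.card_eq_fintype_card,
      Fintype.card_bool]
  have hstab : 637009920 ≤ Nat.card ↥(H ⊓ Subgroup.centralizer ({d} : Set X)) := by
    set C := Subgroup.centralizer ({tp p₁ * tp p₂ * tp p₃} : Set Fi23)
    let f : ↥C × Multiplicative (ZMod 2) →* ↥(H ⊓ Subgroup.centralizer ({d} : Set X)) :=
      (ι.comp (C.subtype.prodMap (MonoidHom.id _))).codRestrict _ fun u => by
        refine ⟨Subgroup.mem_centralizer_singleton_iff.2 ((Commute.map ?_ ι).eq),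
          Subgroup.mem_centralizer_singleton_iff.2 (L.commute_d _).eq⟩
        exact Prod.ext (Subgroup.mem_centralizer_singleton_iff.1 u.1.2) (mul_comm _ _)
    have hf : Function.Injective f := fun a b h => by
      have h' := L.inj (congrArg Subtype.val h)
      exact Prod.ext (Subtype.ext (congrArg Prod.fst h' :)) (congrArg Prod.snd h' :)
    refine le_trans (le_of_eq ?_) (Nat.card_le_card_of_injective f hf)
    rw [Nat.card_prod, CfsgLib.M24.triple_cent_card T.n12 T.n13 T.n23 T.c12 T.c13 T.c23,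
      Nat.card_congr Multiplicative.toAdd, Nat.card_zmod]
  have horbit := M24.Quad.conj_orbit_card H d
  have := hz p₁ p₂ p₃ T
  rw [← hzdef, ← hH, ← horbit] at this
  have := Nat.mul_le_mul hcount hstab
  omega

end CfsgLib.M24Recog
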